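import Cfsg.Agent.Lib.TwinPrime.Orbits

/-!
A five transitive group of degree `2 r + 3` or `3 r + 4`, `r ≥ 5` prime, contains the alternating group.
-/

set_option autoImplicit false

namespace Cfsg.Agent.Lib.TwinPrime

open Finset Equiv MulAction CfsgLib.Perm
open scoped commutatorElement

noncomputable section

attribute [local instance] Classical.propDecidable

variable {α : Type*} [Fintype α] {G : Subgroup (Perm α)} {F : Finset α} {r : ℕ} {R : Subgroup (Perm α)}

/-- Moving one tuple of at most five points to another. -/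
theorem exists_map_tuple (h5 : IsMultiplyPretransitive ↥G α 5) (hα : 5 ≤ Nat.card α) {n : ℕ} (hn : n ≤ 5)
    {v w : Fin n → α} (hv : Function.Injective v) (hw : Function.Injective w) :
    ∃ g ∈ G, ∀ i, g (v i) = w i := by
  haveI := h5
  haveI := MulAction.isMultiplyPretransitive_of_le (G := ↥G) (α := α) hn hα
  obtain ⟨g, hg⟩ := MulAction.exists_smul_eq ↥G (⟨v, hv⟩ : Fin n ↪ α) ⟨w, hw⟩
  exact ⟨g, g.2, fun i => DFunLike.congr_fun hg i⟩

theorem exists_sylfix_image (h5 : IsMultiplyPretransitive ↥G α 5) (hr : r.Prime) {k j : ℕ} (hk : k ≤ 4)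
    (hj0 : 0 < j) (hjr : j < r) (hα : Fintype.card α = k + j * r) (hα5 : 5 ≤ Nat.card α)
    {f : Fin k → α} (hf : Function.Injective f) : ∃ R, SylFix G (univ.image f) r R := by
  refine SylFix.exists_sylfix hr hj0 hjr ?_ fun x hx y hy => ?_
  · rw [card_compl, card_image_of_injective _ hf, hα, card_univ, Fintype.card_fin]
    omega
  · have hx' : x ∉ Set.range f := fun ⟨i, hi⟩ => hx (mem_image.2 ⟨i, mem_univ i, hi⟩)
    have hy' : y ∉ Set.range f := fun ⟨i, hi⟩ => hy (mem_image.2 ⟨i, mem_univ i, hi⟩)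
    obtain ⟨g, hg, hgv⟩ := exists_map_tuple h5 hα5 (show k + 1 ≤ 5 by omega)
      (Fin.snoc_injective_of_injective hf hx') (Fin.snoc_injective_of_injective hf hy')
    refine ⟨g, mem_fixedPart_iff.2 ⟨hg, fun z hz => ?_⟩, by simpa using hgv (Fin.last k)⟩
    obtain ⟨i, -, rfl⟩ := mem_image.1 (mem_coe.1 hz)
    simpa using hgv i.castSucc

/-- The normaliser of `R` inside `G`. -/
def Nor (G R : Subgroup (Perm α)) : Subgroup (Perm α) := G ⊓ Subgroup.normalizer (R : Set (Perm α))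

theorem Nor.conj {n v : Perm α} (hn : n ∈ Nor G R) (hv : v ∈ R) : n * v * n⁻¹ ∈ R :=
  (Subgroup.mem_normalizer_iff.1 (Subgroup.mem_inf.1 hn).2 v).1 hv

theorem SylFix.nor_mapsF (S : SylFix G F r R) {n : Perm α} (hn : n ∈ Nor G R) {x : α} (hx : x ∈ F) :
    n x ∈ F := by
  by_contra h
  obtain ⟨a, ha, hne⟩ := S.exists_move h
  have h1 := S.fixF (Nor.conj (inv_mem hn) ha) hx
  rw [inv_inv, Perm.mul_apply, Perm.mul_apply, Perm.inv_eq_iff_eq] at h1
  exact hne h1

theorem SylFix.nor_maps (S : SylFix G F r R) {n : Perm α} (hn : n ∈ Nor G R) {y : α} (hy : y ∉ F) :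
    n y ∉ F := fun h => hy (by simpa using S.nor_mapsF (inv_mem hn) h)

theorem nor_orb {n : Perm α} (hn : n ∈ Nor G R) {y z : α} (hz : z ∈ orb R y) : n z ∈ orb R (n y) := by
  obtain ⟨v, hv, rfl⟩ := mem_orb.1 hz
  exact mem_orb.2 ⟨n * v * n⁻¹, Nor.conj hn hv, by simp⟩

/-- Frattini argument. -/
theorem SylFix.frattini (h5 : IsMultiplyPretransitive ↥G α 5) (hα5 : 5 ≤ Nat.card α) {k : ℕ} (hk : k ≤ 5)
    {f : Fin k → α} (hf : Function.Injective f) (S : SylFix G (univ.image f) r R) (σ : Perm (Fin k)) :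
    ∃ n ∈ Nor G R, ∀ i, n (f i) = f (σ i) := by
  haveI := Fact.mk S.hr
  obtain ⟨h, hhG, hh⟩ := exists_map_tuple h5 hα5 hk hf (hf.comp σ.injective)
  set K := fixedPart G ((univ.image f : Finset α) : Set α) with hK
  set R' := R.map (MulAut.conj h).toMonoidHom with hR'
  have hle : R' ≤ K := by
    rintro _ ⟨v, hv, rfl⟩
    refine mem_fixedPart_iff.2 ⟨mul_mem (mul_mem hhG (S.leG hv)) (inv_mem hhG), fun z hz => ?_⟩
    obtain ⟨i, -, rfl⟩ := mem_image.1 (mem_coe.1 hz)
    have h1 : h⁻¹ (f i) = f (σ.symm i) := by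
      rw [Perm.inv_eq_iff_eq]
      simpa using (hh (σ.symm i)).symm
    show (h * v * h⁻¹) (f i) = f i
    rw [Perm.mul_apply, Perm.mul_apply, h1, S.fixF hv (mem_image.2 ⟨_, mem_univ _, rfl⟩), hh]
    simp
  have hcR' : Nat.card R' = Nat.card R := Subgroup.card_map_of_injective (MulAut.conj h).injective
  have hcP : Nat.card (R.subgroupOf K) = r ^ (Nat.card ↥K).factorization r :=
    (Nat.card_congr (Subgroup.subgroupOfEquivOfLe S.le).toEquiv).trans S.syl
  have hcQ : Nat.card (R'.subgroupOf K) = r ^ (Nat.card ↥K).factorization r :=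
    (Nat.card_congr (Subgroup.subgroupOfEquivOfLe hle).toEquiv).trans (hcR'.trans S.syl)
  obtain ⟨P, hP⟩ : ∃ P : Sylow r ↥K, (P : Subgroup ↥K) = R.subgroupOf K :=
    ⟨Sylow.ofCard _ hcP, rfl⟩
  obtain ⟨Q, hQ⟩ : ∃ Q : Sylow r ↥K, (Q : Subgroup ↥K) = R'.subgroupOf K :=
    ⟨Sylow.ofCard _ hcQ, rfl⟩
  obtain ⟨c, hc⟩ := MulAction.exists_smul_eq ↥K Q P
  set n := (c : Perm α) * h with hn
  have hsub : R.map (MulAut.conj n).toMonoidHom ≤ R := by
    rintro _ ⟨v, hv, rfl⟩
    have h1 : (⟨h * v * h⁻¹, hle ⟨v, hv, rfl⟩⟩ : ↥K) ∈ (Q : Subgroup ↥K) := by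
      rw [hQ]; exact ⟨v, hv, rfl⟩
    have h2 := Subgroup.smul_mem_pointwise_smul _ (MulAut.conj c) _ h1
    rw [← Sylow.pointwise_smul_def, ← Sylow.smul_def, hc, hP, MulAut.smul_def, MulAut.conj_apply] at h2
    have h3 : (c : Perm α) * (h * v * h⁻¹) * (c : Perm α)⁻¹ ∈ R := h2
    show n * v * n⁻¹ ∈ R
    convert h3 using 1
    rw [hn]; group
  have heq : R.map (MulAut.conj n).toMonoidHom = R := Subgroup.eq_of_le_of_card_ge hsub
    (le_of_eq (Subgroup.card_map_of_injective (MulAut.conj n).injective).symm)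
  refine ⟨n, Subgroup.mem_inf.2 ⟨mul_mem (mem_fixedPart_iff.1 c.2).1 hhG, Subgroup.mem_normalizer_iff.2
    fun v => ⟨fun hv => hsub ⟨v, hv, rfl⟩, fun hv => ?_⟩⟩, fun i => ?_⟩
  · rw [← heq] at hv
    obtain ⟨w, hw, hwv⟩ := hv
    exact (MulAut.conj n).injective hwv ▸ hw
  · rw [hn, Perm.mul_apply, hh]
    exact (mem_fixedPart_iff.1 c.2).2 _ (mem_coe.2 (mem_image.2 ⟨σ i, mem_univ _, rfl⟩))

theorem exists_not_mem_of_card {U : Finset α} (hU : U.card < Fintype.card α) : ∃ y, y ∉ U := by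
  by_contra h
  push_neg at h
  have := eq_univ_of_forall h
  rw [this, card_univ] at hU
  omega

/-- Degree `2 r + 3`. -/
theorem alternating_le_three (h5 : IsMultiplyPretransitive ↥G α 5) (hr : r.Prime) (hr5 : 5 ≤ r)
    (hα : Fintype.card α = 2 * r + 3) : alternatingGroup α ≤ G := by
  by_contra hA
  have hα5 : 5 ≤ Nat.card α := by rw [Nat.card_eq_fintype_card]; omega
  haveI := h5
  have hprim : IsPreprimitive ↥G α := MulAction.isPreprimitive_of_is_two_pretransitive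
    (MulAction.isMultiplyPretransitive_of_le (by norm_num) hα5)
  have hsm : r + 3 ≤ Fintype.card α := by omega
  obtain ⟨e⟩ : Nonempty (Fin 3 ↪ α) := Function.Embedding.nonempty_of_card_le (by simp; omega)
  obtain ⟨R, S⟩ := exists_sylfix_image h5 hr (j := 2) (by norm_num : 3 ≤ 4) (by norm_num) (by omega)
    (by omega) hα5 e.injective
  set F := univ.image e with hF
  have hFc : F.card = 3 := by rw [hF, card_image_of_injective _ e.injective, card_univ, Fintype.card_fin]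
  have hsemi : ∀ v ∈ R, ∀ y ∉ F, v y = y → v = 1 := by
    intro v hv y hy hvy
    obtain ⟨z, hz⟩ := exists_not_mem_of_card (U := F ∪ orb R y) (by
      have := card_union_le F (orb R y); rw [hFc, S.orbcard y hy] at this; omega)
    rw [mem_union, not_or] at hz
    refine S.no_small hprim hsm hA hv hz.1 fun w hw hwz => S.stab hv hy hvy ?_
    have hdisj : Disjoint (orb R y) (orb R z) := disjoint_left.2 fun x h1 h2 =>
      hz.2 (orb_eq h1 ▸ (orb_eq h2).symm ▸ self_mem_orb)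
    have hcov : orb R y ∪ orb R z = Fᶜ := eq_of_subset_of_card_le
      (union_subset (S.orb_subset hy) (S.orb_subset hz.1))
      (by rw [card_compl, hFc, card_union_of_disjoint hdisj, S.orbcard y hy, S.orbcard z hz.1]; omega)
    have : w ∈ orb R y ∪ orb R z := hcov ▸ mem_compl.2 hw
    exact (mem_union.1 this).resolve_right hwz
  obtain ⟨y0, hy0⟩ := exists_not_mem_of_card (U := F) (by omega)
  obtain ⟨g, hg, hgy⟩ := S.exists_move hy0
  have hg1 : g ≠ 1 := fun h => hgy (by rw [h, Perm.one_apply])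
  have hfixed : {x | g x = x} = (F : Set α) := by
    ext x
    exact ⟨fun h => by_contra fun hx => hg1 (hsemi g hg x (fun h' => hx (mem_coe.2 h')) h),
      fun h => S.fixF hg (mem_coe.1 h)⟩
  have hcR : Nat.card R ≤ r := by
    rw [← S.orbcard y0 hy0, ← Fintype.card_coe, ← Nat.card_eq_fintype_card]
    refine Nat.card_le_card_of_injective (fun v : R => (⟨(v : Perm α) y0, mem_orb.2 ⟨v, v.2, rfl⟩⟩ : orb R y0)) ?_
    intro u v huv
    have h1 : (u : Perm α) y0 = (v : Perm α) y0 := congrArg Subtype.val huv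
    exact Subtype.ext (inv_mul_eq_one.1 (hsemi _ (mul_mem (inv_mem v.2) u.2) y0 hy0
      (by rw [Perm.mul_apply, Perm.inv_eq_iff_eq, h1]))).symm
  have hsyl : ¬ r ^ 2 ∣ Nat.card (fixedPart G {x | g x = x}) := by
    rw [hfixed, hr.pow_dvd_iff_le_factorization Nat.card_pos.ne']
    intro h2
    have := S.syl ▸ hcR
    have h3 : r ^ 2 ≤ r ^ (Nat.card (fixedPart G (F : Set α))).factorization r :=
      Nat.pow_le_pow_right hr.pos h2
    have h4 : r * 2 ≤ r ^ 2 := by rw [pow_two]; exact Nat.mul_le_mul_left r hr.two_le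
    omega
  have hcov : ∀ x y : α, g x ≠ x → g y ≠ y → y ∉ orb R x → ∀ w, g w ≠ w → w ∈ orb R x ∨ w ∈ orb R y := by
    intro x y hx hy hyx w hw
    have hn : ∀ {x : α}, g x ≠ x → x ∉ F := fun hx h => hx (S.fixF hg h)
    have hdisj : Disjoint (orb R x) (orb R y) := disjoint_left.2 fun z h1 h2 =>
      hyx (orb_eq h1 ▸ (orb_eq h2).symm ▸ self_mem_orb)
    have hcov : orb R x ∪ orb R y = Fᶜ := eq_of_subset_of_card_le
      (union_subset (S.orb_subset (hn hx)) (S.orb_subset (hn hy)))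
      (by rw [card_compl, hFc, card_union_of_disjoint hdisj, S.orbcard x (hn hx), S.orbcard y (hn hy)]; omega)
    exact mem_union.1 (hcov ▸ mem_compl.2 (hn hw))
  obtain ⟨t, ht, ht3⟩ := exists_isThreeCycle_of_normalizer (G := G) (S.leG hg) (k := 3) (N := 2 * r) hr
    (S.order hg hg1) (by rw [hfixed, Set.ncard_coe_finset, hFc]) le_rfl
    (MulAction.isMultiplyPretransitive_of_le (by norm_num) hα5) hsyl
    (fun h => by
      rcases (Nat.Prime.dvd_mul Nat.prime_three).1 h with h | h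
      · norm_num at h
      · have := (Nat.prime_dvd_prime_iff_eq Nat.prime_three hr).1 h; omega)
    (fun c hc hcg x hx => by
      have hcs : ∀ w, g w ≠ w → g (c w) ≠ c w := fun w hw h => hw (c.injective
        (((Equiv.Perm.ext_iff.1 hcg.eq w).trans h : c (g w) = c w)))
      have hxF : x ∉ F := fun h => hx (S.fixF hg h)
      have hpow : ∀ w ∈ orb R x, ∃ i : ℕ, (g ^ i) x = w := fun w hw => by
        obtain ⟨v, hv, rfl⟩ := mem_orb.1 hw
        obtain ⟨i, hi⟩ := S.gen hg hv hxF hx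
        exact ⟨i, (hi x self_mem_orb).symm⟩
      have hpc : ∀ (i : ℕ) w, c ((g ^ i) w) = (g ^ i) (c w) := fun i w =>
        Equiv.Perm.ext_iff.1 (hcg.pow_right i).eq w
      obtain ⟨i, hi⟩ : ∃ i : ℕ, (g ^ i) x = (c ^ 2) x := by
        rw [pow_two, Perm.mul_apply]
        by_cases h : c x ∈ orb R x
        · obtain ⟨i, hi⟩ := hpow _ h
          exact ⟨i + i, by rw [pow_add, Perm.mul_apply, hi, ← hi, hpc, hi]⟩
        · refine hpow _ ((hcov x (c x) hx (hcs x hx) h _ (hcs _ (hcs x hx))).resolve_right fun h' => ?_)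
          obtain ⟨v, hv, hvx⟩ := mem_orb.1 h'
          obtain ⟨i, hi⟩ := S.gen hg hv (fun h => hcs x hx (S.fixF hg h)) (hcs x hx)
          have := hi (c x) self_mem_orb
          rw [hvx, ← hpc] at this
          exact h (c.injective this ▸ mem_orb.2 ⟨g ^ i, pow_mem hg i, rfl⟩)
      have hind : ∀ j : ℕ, ((c ^ 2) ^ j) x = ((g ^ i) ^ j) x := by
        intro j
        induction j with
        | zero => rfl
        | succ j ih =>
          rw [pow_succ' (c ^ 2) j, Perm.mul_apply, ih, pow_succ (g ^ i) j, Perm.mul_apply, hi]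
          exact Equiv.Perm.ext_iff.1 (((hcg.pow_left 2).pow_right i).pow_right j).eq x
      rw [pow_mul, hind, ← pow_mul, mul_comm, pow_mul, S.pow_r hg, one_pow, Perm.one_apply])
  exact hA (Equiv.Perm.alternatingGroup_le_of_isPreprimitive_of_isThreeCycle_mem hprim ht3 ht)

theorem derived_three : ∀ a b c d : Perm (Fin 3), ⁅⁅a, b⁆, ⁅c, d⁆⁆ = 1 := by
  have h : ∀ x y : Perm (Fin 3), Perm.sign x = 1 → Perm.sign y = 1 → x * y = y * x := by decide
  intro a b c d
  refine commutatorElement_eq_one_iff_mul_comm.2 (h _ _ ?_ ?_) <;>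
    rw [map_commutatorElement, commutatorElement_eq_one_iff_mul_comm, mul_comm]

theorem commutators_four :
    ⁅Equiv.swap (1 : Fin 4) 2, ⁅⁅Equiv.swap (0 : Fin 4) 1, Equiv.swap (1 : Fin 4) 2⁆,
      ⁅Equiv.swap (0 : Fin 4) 1, Equiv.swap (1 : Fin 4) 3⁆⁆⁆ =
      Equiv.swap (0 : Fin 4) 3 * Equiv.swap 1 2 := by
  simp only [commutatorElement_def]
  decide +kernel

theorem pow_agree {g h : Perm α} {O : Finset α} (he : ∀ z ∈ O, g z = h z) (hO : ∀ z ∈ O, h z ∈ O)
    (n : ℕ) : ∀ z ∈ O, (g ^ n) z = (h ^ n) z := by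
  induction n with
  | zero => intro z _; rfl
  | succ n ih =>
    intro z hz
    rw [pow_succ, pow_succ, Perm.mul_apply, Perm.mul_apply, he z hz, ih _ (hO z hz)]

theorem orb_stable {v : Perm α} (hv : v ∈ R) {y z : α} (hz : z ∈ orb R y) : v z ∈ orb R y :=
  orb_eq hz ▸ mem_orb.2 ⟨v, hv, rfl⟩

/-- An element normalising `R` and fixing each of the three orbits acts on `R` as a power map. -/
theorem SylFix.power_map (S : SylFix G F r R)
    (hsmall : ∀ v ∈ R, ∀ a b : α, a ∉ F → b ∉ F → b ∉ orb R a → v a = a → v b = b → v = 1)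
    (y : Fin 3 → α) (hy : ∀ i, y i ∉ F) (hdis : ∀ i j, i ≠ j → y i ∉ orb R (y j))
    {m : Perm α} (hm : m ∈ Nor G R) (hmy : ∀ i, m (y i) ∈ orb R (y i)) :
    ∃ t : ℕ, ∀ v ∈ R, m * v * m⁻¹ = v ^ t := by
  have hex : ∀ i, ∃ t : ℕ, ∀ v ∈ R, ∀ z ∈ orb R (y i), (m * v * m⁻¹) z = (v ^ t) z := by
    intro i
    obtain ⟨a, ha, hay⟩ := S.exists_move (hy i)
    obtain ⟨t, ht⟩ := S.gen ha (Nor.conj hm ha) (hy i) hay
    refine ⟨t, fun v hv z hz => ?_⟩
    obtain ⟨s, hs⟩ := S.gen ha hv (hy i) hay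
    have hw : m⁻¹ z ∈ orb R (y i) := by
      rw [← orb_eq (hmy i)] at hz
      simpa using nor_orb (inv_mem hm) hz
    calc (m * v * m⁻¹) z = (m * a ^ s * m⁻¹) z := by
          rw [Perm.mul_apply, Perm.mul_apply, hs _ hw]; rfl
      _ = ((m * a * m⁻¹) ^ s) z := by rw [conj_pow]
      _ = ((a ^ t) ^ s) z := pow_agree ht (fun w hw => orb_stable (pow_mem ha t) hw) s z hz
      _ = ((a ^ s) ^ t) z := by rw [← pow_mul, mul_comm, pow_mul]
      _ = (v ^ t) z := (pow_agree hs (fun w hw => orb_stable (pow_mem ha s) hw) t z hz).symm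
  choose t ht using hex
  have hsame : ∀ i j l, i ≠ j → i ≠ l → j ≠ l → ∀ v ∈ R, v ≠ 1 → v (y i) = y i →
      ∀ u ∈ R, ∀ z ∈ orb R (y l), (u ^ t j) z = (u ^ t l) z := by
    intro i j l hij hil hjl v hv hv1 hvi u hu z hz
    have hvl : v (y l) ≠ y l := fun h => hv1 (hsmall v hv _ _ (hy i) (hy l) (hdis l i hil.symm) hvi h)
    have heq : m * v * m⁻¹ = v ^ t j := by
      refine (inv_mul_eq_one.1 (hsmall ((v ^ t j)⁻¹ * (m * v * m⁻¹))
        (mul_mem (inv_mem (pow_mem hv _)) (Nor.conj hm hv)) _ _ (hy i) (hy j) (hdis j i hij.symm) ?_ ?_)).symm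
      · rw [Perm.mul_apply, Perm.inv_eq_iff_eq, ht i v hv _ self_mem_orb,
          Perm.pow_apply_eq_self_of_apply_eq_self hvi, Perm.pow_apply_eq_self_of_apply_eq_self hvi]
      · rw [Perm.mul_apply, Perm.inv_eq_iff_eq, ht j v hv _ self_mem_orb]
    have hlv : ∀ w ∈ orb R (y l), (v ^ t j) w = (v ^ t l) w := fun w hw => by
      rw [← heq]; exact ht l v hv w hw
    obtain ⟨s, hs⟩ := S.gen hv hu (hy l) hvl
    calc (u ^ t j) z = ((v ^ s) ^ t j) z := pow_agree hs (fun w hw => orb_stable (pow_mem hv s) hw) _ z hz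
      _ = ((v ^ t j) ^ s) z := by rw [← pow_mul, mul_comm, pow_mul]
      _ = ((v ^ t l) ^ s) z := pow_agree hlv (fun w hw => orb_stable (pow_mem hv _) hw) s z hz
      _ = ((v ^ s) ^ t l) z := by rw [← pow_mul, mul_comm, pow_mul]
      _ = (u ^ t l) z := (pow_agree hs (fun w hw => orb_stable (pow_mem hv s) hw) _ z hz).symm
  by_cases htriv : ∃ i, ∀ v ∈ R, v (y i) = y i → v = 1
  · obtain ⟨i, hi⟩ := htriv
    refine ⟨t i, fun v hv => (inv_mul_eq_one.1 (hi ((v ^ t i)⁻¹ * (m * v * m⁻¹))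
      (mul_mem (inv_mem (pow_mem hv _)) (Nor.conj hm hv)) ?_)).symm⟩
    rw [Perm.mul_apply, Perm.inv_eq_iff_eq, ht i v hv _ self_mem_orb]
  push_neg at htriv
  refine ⟨t 0, fun v hv => ?_⟩
  obtain ⟨v1, hv1, e1, n1⟩ := htriv 1
  obtain ⟨v2, hv2, e2, n2⟩ := htriv 2
  refine (inv_mul_eq_one.1 (hsmall ((v ^ t 0)⁻¹ * (m * v * m⁻¹))
    (mul_mem (inv_mem (pow_mem hv _)) (Nor.conj hm hv)) _ _ (hy 1) (hy 2) (hdis 2 1 (by decide)) ?_ ?_)).symm
  · rw [Perm.mul_apply, Perm.inv_eq_iff_eq, ht 1 v hv _ self_mem_orb,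
      hsame 2 0 1 (by decide) (by decide) (by decide) v2 hv2 n2 e2 v hv _ self_mem_orb]
  · rw [Perm.mul_apply, Perm.inv_eq_iff_eq, ht 2 v hv _ self_mem_orb,
      hsame 1 0 2 (by decide) (by decide) (by decide) v1 hv1 n1 e1 v hv _ self_mem_orb]

set_option maxHeartbeats 1600000 in
/-- Degree `3 r + 4`. -/
theorem alternating_le_four (h5 : IsMultiplyPretransitive ↥G α 5) (hr : r.Prime) (hr5 : 5 ≤ r)
    (hα : Fintype.card α = 3 * r + 4) : alternatingGroup α ≤ G := by
  by_contra hA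
  have hα5 : 5 ≤ Nat.card α := by rw [Nat.card_eq_fintype_card]; omega
  haveI := h5
  have hprim : IsPreprimitive ↥G α := MulAction.isPreprimitive_of_is_two_pretransitive
    (MulAction.isMultiplyPretransitive_of_le (by norm_num) hα5)
  have hsm : r + 3 ≤ Fintype.card α := by omega
  obtain ⟨f⟩ : Nonempty (Fin 4 ↪ α) := Function.Embedding.nonempty_of_card_le (by simp; omega)
  obtain ⟨R, S⟩ := exists_sylfix_image h5 hr (j := 3) (le_refl 4) (by norm_num) (by omega)
    (by omega) hα5 f.injective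
  set F := univ.image f with hF
  have hFc : F.card = 4 := by rw [hF, card_image_of_injective _ f.injective, card_univ, Fintype.card_fin]
  obtain ⟨y0, hy0⟩ := exists_not_mem_of_card (U := F) (by omega)
  obtain ⟨y1, hy1⟩ := exists_not_mem_of_card (U := F ∪ orb R y0) (by
    have := card_union_le F (orb R y0); rw [hFc, S.orbcard y0 hy0] at this; omega)
  rw [mem_union, not_or] at hy1
  obtain ⟨y2, hy2⟩ := exists_not_mem_of_card (U := F ∪ (orb R y0 ∪ orb R y1)) (by
    have := card_union_le F (orb R y0 ∪ orb R y1)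
    have := card_union_le (orb R y0) (orb R y1)
    rw [S.orbcard y0 hy0, S.orbcard y1 hy1.1] at this; omega)
  rw [mem_union, mem_union, not_or, not_or] at hy2
  let y : Fin 3 → α := ![y0, y1, y2]
  have hy : ∀ i, y i ∉ F := fun i => by fin_cases i <;> [exact hy0; exact hy1.1; exact hy2.1]
  have hsymm : ∀ {a b : α}, a ∈ orb R b → b ∈ orb R a := fun h => (orb_eq h).symm ▸ self_mem_orb
  have hdis : ∀ i j, i ≠ j → y i ∉ orb R (y j) := by
    intro i j hij
    fin_cases i <;> fin_cases j <;>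
      first | exact absurd rfl hij | exact hy1.2 | exact fun h => hy1.2 (hsymm h) | exact hy2.2.1 |
        exact fun h => hy2.2.1 (hsymm h) | exact hy2.2.2 | exact fun h => hy2.2.2 (hsymm h)
  have huniq : ∀ {i j : Fin 3} {z : α}, z ∈ orb R (y i) → z ∈ orb R (y j) → i = j := fun hi hj =>
    by_contra fun h => hdis _ _ h ((orb_eq hj) ▸ (orb_eq hi).symm ▸ self_mem_orb)
  have hcov : ∀ z, z ∉ F → ∃ i, z ∈ orb R (y i) := by
    intro z hz
    have hd : (orb R y0 ∪ orb R y1).card = 2 * r := by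
      rw [card_union_of_disjoint, S.orbcard y0 hy0, S.orbcard y1 hy1.1]
      · omega
      · exact disjoint_left.2 fun x h1 h2 => absurd (huniq (i := 0) (j := 1) h1 h2) (by decide)
    have heq : orb R y0 ∪ orb R y1 ∪ orb R y2 = Fᶜ := eq_of_subset_of_card_le
      (union_subset (union_subset (S.orb_subset hy0) (S.orb_subset hy1.1)) (S.orb_subset hy2.1))
      (by
        rw [card_compl, hFc, card_union_of_disjoint, hd, S.orbcard y2 hy2.1]
        · omega
        · rw [disjoint_union_left]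
          exact ⟨disjoint_left.2 fun x h1 h2 => absurd (huniq (i := 0) (j := 2) h1 h2) (by decide),
            disjoint_left.2 fun x h1 h2 => absurd (huniq (i := 1) (j := 2) h1 h2) (by decide)⟩)
    have : z ∈ orb R y0 ∪ orb R y1 ∪ orb R y2 := heq ▸ mem_compl.2 hz
    simp only [mem_union] at this
    rcases this with (h | h) | h
    exacts [⟨0, h⟩, ⟨1, h⟩, ⟨2, h⟩]
  have hsmall : ∀ v ∈ R, ∀ a b : α, a ∉ F → b ∉ F → b ∉ orb R a → v a = a → v b = b → v = 1 := by
    intro v hv a b ha hb hba hva hvb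
    obtain ⟨i, hi⟩ := hcov a ha
    obtain ⟨j, hj⟩ := hcov b hb
    have hij : i ≠ j := fun h => hba (by rw [orb_eq hi, h]; exact hj)
    have hthird : ∀ i j : Fin 3, i ≠ j → ∃ l : Fin 3, l ≠ i ∧ l ≠ j ∧ ∀ k, k ≠ l → k = i ∨ k = j := by
      decide
    obtain ⟨l, hli, hlj, hl⟩ := hthird i j hij
    refine S.no_small hprim hsm hA hv (hy l) fun z hz hzl => ?_
    obtain ⟨k, hk⟩ := hcov z hz
    rcases hl k (fun h => hzl (h ▸ hk)) with rfl | rfl
    · exact S.stab hv ha hva (orb_eq hi ▸ hk)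
    · exact S.stab hv hb hvb (orb_eq hj ▸ hk)
  choose! ι hι using hcov
  have hnm : ∀ n : ↥(Nor G R), ∀ i, (n : Perm α) (y i) ∉ F := fun n i => S.nor_maps n.2 (hy i)
  letI : MulAction ↥(Nor G R) (Fin 3) :=
    { smul := fun n i => ι ((n : Perm α) (y i))
      one_smul := fun i => huniq (hι _ (hy i)) self_mem_orb
      mul_smul := fun n n' i => huniq (hι _ (hnm (n * n') i)) (by
        have h1 := nor_orb n.2 (hι _ (hnm n' i))
        rw [orb_eq (hι _ (hnm n (ι ((n' : Perm α) (y i)))))] at h1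
        exact h1) }
  have hmapF : ∀ (n : ↥(Nor G R)) (i : Fin 4), ∃ j, f j = (n : Perm α) (f i) := fun n i => by
    obtain ⟨j, -, hj⟩ := mem_image.1 (S.nor_mapsF n.2 (mem_image.2 ⟨i, mem_univ _, rfl⟩))
    exact ⟨j, hj⟩
  choose τ hτ using hmapF
  letI : MulAction ↥(Nor G R) (Fin 4) :=
    { smul := τ
      one_smul := fun i => f.injective (hτ 1 i)
      mul_smul := fun n n' i => f.injective ((hτ (n * n') i).trans (by
        show (n : Perm α) ((n' : Perm α) (f i)) = _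
        rw [← hτ n' i]; exact (hτ n _).symm)) }
  set ψ := MulAction.toPermHom ↥(Nor G R) (Fin 4) with hψ
  set φ := MulAction.toPermHom ↥(Nor G R) (Fin 3) with hφ
  have hψsurj : ∀ σ : Perm (Fin 4), ∃ n, ψ n = σ := fun σ => by
    obtain ⟨n, hn, hnσ⟩ := S.frattini h5 hα5 (by norm_num) f.injective σ
    exact ⟨⟨n, hn⟩, Equiv.ext fun i => f.injective ((hτ ⟨n, hn⟩ i).trans (hnσ i))⟩
  obtain ⟨A, hA'⟩ := hψsurj (Equiv.swap 0 1)
  obtain ⟨B, hB⟩ := hψsurj (Equiv.swap 1 2)
  obtain ⟨B', hB'⟩ := hψsurj (Equiv.swap 1 3)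
  obtain ⟨d, hd⟩ : ∃ d, d = ⁅⁅A, B⁆, ⁅A, B'⁆⁆ := ⟨_, rfl⟩
  obtain ⟨e, he⟩ : ∃ e, e = ⁅B, d⁆ := ⟨_, rfl⟩
  have hψe : ψ e = Equiv.swap 0 3 * Equiv.swap 1 2 := by
    rw [he, hd]
    simp only [map_commutatorElement, hA', hB, hB']
    exact commutators_four
  have hφd : φ d = 1 := by rw [hd]; simp only [map_commutatorElement, derived_three]
  have hφe : φ e = 1 := by
    rw [he, map_commutatorElement, hφd, commutatorElement_one_right]
  have hmy : ∀ n : ↥(Nor G R), φ n = 1 → ∀ i, (n : Perm α) (y i) ∈ orb R (y i) := by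
    intro n hn i
    have h1 : ι ((n : Perm α) (y i)) = i := Equiv.Perm.ext_iff.1 hn i
    have := hι _ (hnm n i)
    rwa [h1] at this
  obtain ⟨t, ht⟩ := S.power_map hsmall y hy hdis d.2 (hmy d hφd)
  have hcomm : ∀ v ∈ R, Commute (e : Perm α) v := by
    intro v hv
    have hev : (e : Perm α) = (B : Perm α) * d * (B : Perm α)⁻¹ * (d : Perm α)⁻¹ := by
      rw [he, commutatorElement_def]; rfl
    obtain ⟨w, hw, hwv⟩ : ∃ w ∈ R, w = (d : Perm α)⁻¹ * v * (d : Perm α) :=
      ⟨_, by simpa using Nor.conj (inv_mem d.2) hv, rfl⟩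
    have h1 : v = w ^ t := by rw [← ht w hw, hwv]; group
    have hw' : (B : Perm α)⁻¹ * w * (B : Perm α) ∈ R := by simpa using Nor.conj (inv_mem B.2) hw
    have h2 : (B : Perm α) * d * (B : Perm α)⁻¹ * w * ((B : Perm α) * d * (B : Perm α)⁻¹)⁻¹ = w ^ t := by
      calc _ = (B : Perm α) * ((d : Perm α) * ((B : Perm α)⁻¹ * w * (B : Perm α)) * (d : Perm α)⁻¹) *
            (B : Perm α)⁻¹ := by group
        _ = (B : Perm α) * ((B : Perm α)⁻¹ * w * (B : Perm α)) ^ t * (B : Perm α)⁻¹ := by rw [ht _ hw']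
        _ = _ := by rw [← conj_pow]; group
    show (e : Perm α) * v = v * e
    rw [← mul_inv_eq_iff_eq_mul, hev]
    calc _ = (B : Perm α) * d * (B : Perm α)⁻¹ * ((d : Perm α)⁻¹ * v * (d : Perm α)) *
          ((B : Perm α) * d * (B : Perm α)⁻¹)⁻¹ := by group
      _ = w ^ t := by rw [← hwv, h2]
      _ = v := h1.symm
  have hout : ∀ z ∉ F, ((e : Perm α) ^ r) z = z := by
    intro z hz
    have hez : (e : Perm α) z ∈ orb R z := by
      have h1 := nor_orb e.2 (hι z hz)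
      rw [orb_eq (hmy e hφe (ι z)), ← orb_eq (hι z hz)] at h1
      exact h1
    obtain ⟨v, hv, hvz⟩ := mem_orb.1 hez
    have hind : ∀ n : ℕ, ((e : Perm α) ^ n) z = (v ^ n) z := by
      intro n
      induction n with
      | zero => rfl
      | succ n ih =>
        rw [pow_succ', Perm.mul_apply, ih, pow_succ, Perm.mul_apply, hvz]
        exact Equiv.Perm.ext_iff.1 ((hcomm v hv).pow_right n).eq z
    rw [hind, S.pow_r hv, Perm.one_apply]
  have hin : ∀ i, ((e : Perm α) ^ r) (f i) = f ((Equiv.swap 0 3 * Equiv.swap 1 2 : Perm (Fin 4)) i) := by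
    intro i
    have h1 : ψ (e ^ r) = Equiv.swap 0 3 * Equiv.swap 1 2 := by
      obtain ⟨s, hs⟩ := hr.odd_of_ne_two (by omega)
      rw [map_pow, hψe, hs, pow_succ, pow_mul,
        show (Equiv.swap 0 3 * Equiv.swap 1 2 : Perm (Fin 4)) ^ 2 = 1 by decide, one_pow, one_mul]
    rw [← h1]
    exact (hτ (e ^ r) i).symm
  set X := Equiv.swap (f 0) (f 3) * Equiv.swap (f 1) (f 2) with hX
  have hne : ∀ i j, i ≠ j → f i ≠ f j := fun i j h => f.injective.ne h
  have hXe : (e : Perm α) ^ r = X := by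
    refine Equiv.ext fun z => ?_
    by_cases hz : z ∈ F
    · obtain ⟨i, -, rfl⟩ := mem_image.1 hz
      rw [hin, hX]
      simp only [Perm.mul_apply, Function.Embedding.swap_apply]
    · have hn : ∀ i, z ≠ f i := fun i h => hz (h ▸ mem_image.2 ⟨i, mem_univ _, rfl⟩)
      rw [hout z hz, hX, Perm.mul_apply, Equiv.swap_apply_of_ne_of_ne (hn 1) (hn 2),
        Equiv.swap_apply_of_ne_of_ne (hn 0) (hn 3)]
  have hXG : X ∈ G := hXe ▸ pow_mem (Subgroup.mem_inf.1 e.2).1 r
  obtain ⟨c, hc⟩ := exists_not_mem_of_card (U := F) (by omega)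
  have hnc : ∀ i, c ≠ f i := fun i h => hc (h ▸ mem_image.2 ⟨i, mem_univ _, rfl⟩)
  obtain ⟨g, hg, hgv⟩ := exists_map_tuple h5 hα5 (show 4 ≤ 5 by norm_num)
    (v := ![f 0, f 3, f 1, f 2]) (w := ![f 0, f 3, f 1, c])
    (by intro i j h; fin_cases i <;> fin_cases j <;> simp_all [f.injective.eq_iff])
    (by intro i j h; fin_cases i <;> fin_cases j <;> simp_all [f.injective.eq_iff, (hnc _).symm])
  have hconj : g * X * g⁻¹ = Equiv.swap (f 0) (f 3) * Equiv.swap (f 1) c := by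
    have e0 : g (f 0) = f 0 := hgv 0
    have e1 : g (f 3) = f 3 := hgv 1
    have e2 : g (f 1) = f 1 := hgv 2
    have e3 : g (f 2) = c := hgv 3
    rw [hX, ← conj_mul, ← Equiv.swap_apply_apply, ← Equiv.swap_apply_apply, e0, e1, e2, e3]
  have h3 : (X * (g * X * g⁻¹)).IsThreeCycle := by
    have hcomm : Commute (Equiv.swap (f 0) (f 3)) (Equiv.swap (f 1) (f 2)) := by
      refine Equiv.ext fun z => ?_
      have := hne 0 1 (by decide); have := hne 0 2 (by decide); have := hne 3 1 (by decide)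
      have := hne 3 2 (by decide)
      simp only [Perm.mul_apply, Equiv.swap_apply_def]
      grind
    rw [hconj, hX, hcomm.eq, mul_assoc, ← mul_assoc (Equiv.swap (f 0) (f 3)), Equiv.swap_mul_self, one_mul]
    exact Equiv.Perm.isThreeCycle_swap_mul_swap_same (hne 1 2 (by decide)) (hnc 1).symm (hnc 2).symm
  exact hA (Equiv.Perm.alternatingGroup_le_of_isPreprimitive_of_isThreeCycle_mem hprim h3
    (mul_mem hXG (mul_mem (mul_mem hg hXG) (inv_mem hg))))

end

end Cfsg.Agent.Lib.TwinPrime
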