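import Mathlib

/-!
A solvable transitive group of prime degree `q` has order `q * d` with `d` dividing `q - 1`.
-/

set_option autoImplicit false

namespace Cfsg.Agent.Lib.TwinPrime

open MulAction
open scoped commutatorElement

theorem solvable_prime {H X : Type*} [Group H] [Finite H] [MulAction H X] [FaithfulSMul H X] [Finite X]
    [IsPretransitive H X] {q : ℕ} (hq : q.Prime) (hX : Nat.card X = q) (hs : Group.IsSolvable H) :
    ∃ d, Nat.card H = q * d ∧ d ∣ q - 1 := by
  classical
  haveI := Fact.mk hq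
  haveI : Nontrivial X := Finite.one_lt_card_iff_nontrivial.1 (hX ▸ hq.one_lt)
  obtain ⟨n, hn⟩ := (Group.isSolvable_def H).1 hs
  set m := Nat.find (⟨n, hn⟩ : ∃ k, derivedSeries H k = ⊥) with hm
  have hm0 : derivedSeries H m = ⊥ := Nat.find_spec (⟨n, hn⟩ : ∃ k, derivedSeries H k = ⊥)
  obtain ⟨k, hk⟩ : ∃ k, m = k + 1 := by
    rcases Nat.eq_zero_or_pos m with h | h
    · exfalso
      rw [h, derivedSeries_zero] at hm0
      obtain ⟨x, y, hxy⟩ := exists_pair_ne X
      obtain ⟨g, hg⟩ := exists_smul_eq H x y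
      have : g ∈ (⊥ : Subgroup H) := hm0 ▸ Subgroup.mem_top g
      rw [Subgroup.mem_bot.1 this, one_smul] at hg
      exact hxy hg
    · exact ⟨m - 1, by omega⟩
  set A := derivedSeries H k with hA
  have hAne : A ≠ ⊥ := fun h => Nat.find_min (⟨n, hn⟩ : ∃ k, derivedSeries H k = ⊥) (show k < m by omega) h
  have hAc : ∀ x ∈ A, ∀ y ∈ A, x * y = y * x := by
    intro x hx y hy
    have h1 : ⁅x, y⁆ ∈ ⁅A, A⁆ := Subgroup.commutator_mem_commutator hx hy
    rw [hA, ← derivedSeries_succ, ← hk, hm0, Subgroup.mem_bot] at h1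
    exact commutatorElement_eq_one_iff_mul_comm.1 h1
  haveI : A.Normal := derivedSeries_normal H k
  haveI : IsPreprimitive H X := IsPreprimitive.of_prime_card (hX.symm ▸ hq)
  have hAtr : IsPretransitive A X := by
    refine IsQuasiPreprimitive.isPretransitive_of_normal (G := H) ?_
    intro h
    refine hAne ((Subgroup.eq_bot_iff_forall A).2 fun g hg => FaithfulSMul.eq_of_smul_eq_smul fun x : X => ?_)
    rw [one_smul]
    have : x ∈ fixedPoints A X := h ▸ Set.mem_univ x
    exact this ⟨g, hg⟩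
  obtain ⟨a⟩ : Nonempty X := inferInstance
  have hreg : ∀ x ∈ A, x • a = a → x = 1 := by
    intro x hx hxa
    refine FaithfulSMul.eq_of_smul_eq_smul fun y : X => ?_
    obtain ⟨⟨g, hg⟩, rfl⟩ := exists_smul_eq A a y
    show x • g • a = (1 : H) • g • a
    rw [one_smul, ← mul_smul, hAc x hx g hg, mul_smul, hxa]
  have hbij : Function.Bijective fun g : A => (g : H) • a := by
    refine ⟨fun g g' h => ?_, fun y => ?_⟩
    · have : (g' : H)⁻¹ * g = 1 := hreg _ (A.mul_mem (A.inv_mem g'.2) g.2) (by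
        rw [mul_smul, inv_smul_eq_iff]; exact h)
      exact Subtype.ext (inv_mul_eq_one.1 this).symm
    · obtain ⟨g, hg⟩ := exists_smul_eq A a y
      exact ⟨g, hg⟩
  have hAcard : Nat.card A = q := (Nat.card_congr (Equiv.ofBijective _ hbij)).trans hX
  haveI : IsCyclic A := isCyclic_of_prime_card hAcard
  let ψ : stabilizer H a →* MulAut A :=
    (MulAut.conjNormal (H := A)).comp (stabilizer H a).subtype
  have hψ : Function.Injective ψ := by
    rw [injective_iff_map_eq_one]
    rintro ⟨g, hg⟩ h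
    refine Subtype.ext (FaithfulSMul.eq_of_smul_eq_smul fun y : X => ?_)
    obtain ⟨⟨x, hx⟩, rfl⟩ := exists_smul_eq A a y
    have h' := congrArg Subtype.val (DFunLike.congr_fun h ⟨x, hx⟩)
    change g * x * g⁻¹ = x at h'
    show g • x • a = (1 : H) • x • a
    rw [one_smul, ← mul_smul, show g * x = x * g from (mul_inv_eq_iff_eq_mul.1 h'), mul_smul]
    exact congrArg _ hg
  refine ⟨Nat.card (stabilizer H a), ?_, ?_⟩
  · rw [← Subgroup.index_mul_card (stabilizer H a), index_stabilizer_of_transitive, hX]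
  · have := Subgroup.card_dvd_of_injective ψ hψ
    rwa [IsCyclic.card_mulAut, hAcard, Nat.totient_prime hq] at this

end Cfsg.Agent.Lib.TwinPrime
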