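import Cfsg.Agent.Lib.TwinPrime.Graph
import Cfsg.Agent.Lib.TwinPrime.Solvable
import Cfsg.Agent.Lib.Perm.HalfNormalizerPrimitive

/-!
An insoluble group of prime degree `p = q + 2`, `q > 5` prime, with half Sylow normaliser, is five transitive.
-/

set_option autoImplicit false

namespace Cfsg.Agent.Lib.TwinPrime

open Finset Equiv

noncomputable section

attribute [local instance] Classical.propDecidable

variable {α : Type*} [Fintype α] {G : Subgroup (Perm α)} {p q : ℕ}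

/-- The hypotheses. -/
structure Twin (G : Subgroup (Perm α)) (p q : ℕ) : Prop where
  hp : p.Prime
  hq : q.Prime
  hq5 : 5 < q
  hpq : p = q + 2
  hα : Fintype.card α = p
  ins : ¬ Group.IsSolvable G
  trans : MulAction.IsPretransitive G α
  hN : ∃ P : Sylow p G, 2 * Nat.card ↥(Subgroup.normalizer ((P : Subgroup G) : Set G)) = p * (p - 1)

theorem Twin.qodd (T : Twin G p q) : q % 2 = 1 :=
  T.hq.eq_two_or_odd.resolve_left (by have := T.hq5; omega)

theorem Twin.two (T : Twin G p q) {a b c d : α} (hab : a ≠ b) (hcd : c ≠ d) :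
    ∃ g ∈ G, g a = c ∧ g b = d := by
  haveI := Fact.mk T.hp
  haveI := T.trans
  obtain ⟨g, h1, h2⟩ := CfsgLib.HalfNormalizer.two_transitive (G := ↥G) T.hα T.ins hab hcd
  exact ⟨g, g.2, h1, h2⟩

theorem Twin.no_swap (T : Twin G p q) {a b : α} (hab : a ≠ b) : Equiv.swap a b ∉ G := by
  intro hs
  haveI := Fact.mk T.hp
  haveI := T.trans
  have hall : ∀ σ : Perm α, σ ∈ G := by
    intro σ
    have htop : (⊤ : Subgroup (Perm α)) ≤ G := by
      rw [← Equiv.Perm.closure_isSwap, Subgroup.closure_le]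
      rintro τ ⟨x, y, hxy, rfl⟩
      obtain ⟨g, hg, rfl, rfl⟩ := T.two hab hxy
      have : Equiv.swap (g a) (g b) = g * Equiv.swap a b * g⁻¹ := by
        refine Equiv.ext fun z => ?_
        obtain ⟨w, rfl⟩ : ∃ w, g w = z := ⟨g.symm z, g.apply_symm_apply z⟩
        simp only [Perm.mul_apply, Perm.inv_def, Equiv.symm_apply_apply]
        exact g.injective.swap_apply a b w
      rw [SetLike.mem_coe, this]
      exact mul_mem (mul_mem hg hs) (inv_mem hg)
    exact htop (Subgroup.mem_top σ)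
  obtain ⟨P, hP⟩ := T.hN
  obtain ⟨x, e, hxP, -, hxe, hxgen⟩ := CfsgLib.HalfNormalizer.exists_shift (G := ↥G) T.hα P
  have hxpow : ∀ (n : ℕ) i, ((x : Perm α) ^ n) (e i) = e (i + n) := by
    intro n
    induction n with
    | zero => simp
    | succ n ih =>
      intro i
      rw [pow_succ', Perm.mul_apply, ih]
      exact (hxe _).trans (by push_cast; ring_nf)
  let σ : (ZMod p)ˣ × ZMod p → ↥G := fun z =>
    ⟨e.permCongr ((Units.mulLeft z.1).trans (Equiv.addRight z.2)), hall _⟩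
  have hσ : ∀ z i, (σ z : Perm α) (e i) = e (z.1 * i + z.2) := fun z i => by simp [σ]
  have hinv : ∀ z : (ZMod p)ˣ × ZMod p, σ (z.1⁻¹, -(↑z.1⁻¹ * z.2)) * σ z = 1 := by
    intro z
    refine Subtype.ext (Equiv.ext fun y => ?_)
    obtain ⟨i, rfl⟩ := e.surjective y
    show (σ _ : Perm α) ((σ z : Perm α) (e i)) = e i
    rw [hσ, hσ, mul_add, ← mul_assoc, Units.inv_mul, one_mul]
    congr 1
    ring
  have hmaps : ∀ z, ∀ h ∈ (P : Subgroup ↥G), σ z * h * (σ z)⁻¹ ∈ (P : Subgroup ↥G) := by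
    intro z h hh
    rw [← hxgen] at hh ⊢
    have hx1 : σ z * x * (σ z)⁻¹ = x ^ (z.1 : ZMod p).val := by
      rw [mul_inv_eq_iff_eq_mul]
      refine Subtype.ext (Equiv.ext fun y => ?_)
      obtain ⟨i, rfl⟩ := e.surjective y
      have hx' : (x : Perm α) (e i) = e (i + 1) := hxe i
      rw [Subgroup.coe_mul, Subgroup.coe_mul, Perm.mul_apply, Perm.mul_apply, hx', hσ, hσ,
        SubmonoidClass.coe_pow, hxpow, ZMod.natCast_zmod_val]
      congr 1
      ring
    obtain ⟨k, rfl⟩ := Subgroup.mem_zpowers_iff.1 hh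
    rw [← conj_zpow, hx1]
    exact Subgroup.zpow_mem _ (Subgroup.pow_mem _ (Subgroup.mem_zpowers x) _) k
  have hmem : ∀ z, σ z ∈ Subgroup.normalizer ((P : Subgroup ↥G) : Set ↥G) := by
    intro z
    rw [Subgroup.mem_normalizer_iff]
    refine fun h => ⟨fun hh => hmaps z h hh, fun hh => ?_⟩
    have hi : σ (z.1⁻¹, -(↑z.1⁻¹ * z.2)) = (σ z)⁻¹ := eq_inv_of_mul_eq_one_left (hinv z)
    have := hmaps (z.1⁻¹, -(↑z.1⁻¹ * z.2)) _ hh
    rw [hi] at this
    simpa [mul_assoc] using this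
  have hinj : Function.Injective fun z => (⟨σ z, hmem z⟩ : ↥(Subgroup.normalizer ((P : Subgroup ↥G) : Set ↥G))) := by
    intro z z' h
    have h' : (σ z : Perm α) = σ z' := congrArg (fun w : ↥(Subgroup.normalizer ((P : Subgroup ↥G) : Set ↥G)) =>
      ((w : ↥G) : Perm α)) h
    have e0 : z.2 = z'.2 := by
      have := DFunLike.congr_fun h' (e 0)
      rw [hσ, hσ, mul_zero, mul_zero, zero_add, zero_add] at this
      exact e.injective this
    have e1 := DFunLike.congr_fun h' (e 1)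
    rw [hσ, hσ, mul_one, mul_one, e0] at e1
    exact Prod.ext (Units.ext (add_right_cancel (e.injective e1))) e0
  have := Nat.card_le_card_of_injective _ hinj
  rw [Nat.card_prod, Nat.card_eq_fintype_card, ZMod.card_units, Nat.card_zmod] at this
  have h2 := T.hq5
  have h3 := T.hpq
  have hpos : 0 < (p - 1) * p := Nat.mul_pos (by omega) (by omega)
  nlinarith

theorem Twin.three (T : Twin G p q) {a b c d : α} (hab : a ≠ b) (hca : c ≠ a) (hcb : c ≠ b)
    (hda : d ≠ a) (hdb : d ≠ b) : Orb G a b c d := by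
  haveI := Fact.mk T.hp
  haveI := T.trans
  have hq5 := T.hq5
  have hpq := T.hpq
  obtain ⟨P, hP⟩ := T.hN
  rcases (show p % 4 = 1 ∨ p % 4 = 3 by have := T.qodd; omega) with h1 | h3
  · have h3' : MulAction.IsMultiplyPretransitive ↥G α 3 := by
      refine CfsgLib.HalfNormalizer.three_transitive_of_even T.hα T.ins P ?_
      obtain ⟨r, hr⟩ : ∃ r, p = 4 * r + 1 := ⟨p / 4, by omega⟩
      have h1' : p * (p - 1) = 2 * (2 * (p * r)) := by rw [show p - 1 = 4 * r by omega]; ring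
      exact ⟨p * r, by omega⟩
    have mk : ∀ w, w ≠ a → w ≠ b → Function.Injective ![a, b, w] := by
      intro w hwa hwb i j h
      fin_cases i <;> fin_cases j <;>
        simp_all [hab.symm, hwa.symm, hwb.symm]
    obtain ⟨g, hg⟩ := h3'.exists_smul_eq ⟨_, mk c hca hcb⟩ ⟨_, mk d hda hdb⟩
    exact ⟨g, g.2, DFunLike.congr_fun hg 0, DFunLike.congr_fun hg 1, DFunLike.congr_fun hg 2⟩
  · by_contra hcd
    obtain ⟨e, he⟩ := CfsgLib.HalfNormalizer.halfAffine (G := ↥G) T.hα P hP h3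
    have h4 := CfsgLib.HalfNormalizer.orbits_le_four T.hα T.ins (by omega) e he hab
    have hH : ∀ {k : ↥G}, k ∈ MulAction.stabilizer ↥G a ⊓ MulAction.stabilizer ↥G b →
        (k : Perm α) a = a ∧ (k : Perm α) b = b := fun hk => Subgroup.mem_inf.1 hk
    have htwo : ∀ z, z ≠ a → z ≠ b → Orb G a b c z ∨ Orb G a b d z := by
      intro z hza hzb
      by_contra hz
      rw [not_or] at hz
      let f : Fin 5 → MulAction.orbitRel.Quotient ↥(MulAction.stabilizer ↥G a ⊓ MulAction.stabilizer ↥G b) α :=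
        fun i => Quotient.mk _ (![a, b, c, d, z] i)
      have hf : Function.Injective f := by
        intro i j hij
        obtain ⟨⟨k, hk⟩, hkij⟩ := Quotient.exact hij
        change (k : Perm α) (![a, b, c, d, z] j) = ![a, b, c, d, z] i at hkij
        obtain ⟨hka, hkb⟩ := hH hk
        have rel : ∀ x y, (k : Perm α) x = y → Orb G a b x y := fun x y h => ⟨k, k.2, hka, hkb, h⟩
        have n1 : ∀ x, x ≠ a → (k : Perm α) x ≠ a := fun x hx h => hx ((k : Perm α).injective (h.trans hka.symm))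
        have n2 : ∀ x, x ≠ b → (k : Perm α) x ≠ b := fun x hx h => hx ((k : Perm α).injective (h.trans hkb.symm))
        have r1 : (k : Perm α) c ≠ d := fun h => hcd (rel _ _ h)
        have r2 : (k : Perm α) d ≠ c := fun h => hcd (rel _ _ h).symm
        have r3 : (k : Perm α) c ≠ z := fun h => hz.1 (rel _ _ h)
        have r4 : (k : Perm α) z ≠ c := fun h => hz.1 (rel _ _ h).symm
        have r5 : (k : Perm α) d ≠ z := fun h => hz.2 (rel _ _ h)
        have r6 : (k : Perm α) z ≠ d := fun h => hz.2 (rel _ _ h).symm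
        have := n1 c hca; have := n1 d hda; have := n1 z hza; have := n2 c hcb; have := n2 d hdb
        have := n2 z hzb
        fin_cases i <;> fin_cases j <;> simp_all [hab.symm]
      have := Nat.card_le_card_of_injective f hf
      rw [Nat.card_fin] at this
      omega
    have hdisj : Disjoint (Dset G a b c) (Dset G a b d) := by
      rw [disjoint_left]
      exact fun z h h' => hcd ((mem_Dset.1 h).trans (mem_Dset.1 h').symm)
    have hU : Dset G a b c ∪ Dset G a b d = univ \ {a, b} := by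
      ext z
      simp only [mem_union, mem_Dset, mem_sdiff, mem_univ, true_and, mem_insert, mem_singleton, not_or]
      exact ⟨fun h => h.elim (fun h => h.ne hca hcb) (fun h => h.ne hda hdb), fun h => htwo z h.1 h.2⟩
    have hsum : (Dset G a b c).card + (Dset G a b d).card = q := by
      rw [← card_union_of_disjoint hdisj, hU, card_sdiff_of_subset (subset_univ _), card_univ, T.hα,
        card_pair hab]
      omega
    have hc0 : 0 < (Dset G a b c).card := card_pos.2 ⟨c, mem_Dset.2 Orb.refl⟩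
    have hd0 : 0 < (Dset G a b d).card := card_pos.2 ⟨d, mem_Dset.2 Orb.refl⟩
    refine suborbits_false hab (fun u v hu hv => T.two hu.symm hv.symm)
      (CfsgLib.HalfNormalizer.primitive_stabilizer T.hα T.ins P hP (by omega) a)
      hca hcb hda hdb hcd htwo ?_ (by have := T.qodd; omega)
    rw [← Nat.coprime_self_add_right, hsum]
    exact (T.hq.coprime_iff_not_dvd.2 fun h => by have := Nat.le_of_dvd hc0 h; omega).symm

/-! ### The pair stabiliser on the other points -/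

/-- The setwise stabiliser of a pair. -/
def Pair (G : Subgroup (Perm α)) (a b : α) : Subgroup (Perm α) where
  carrier := {g | g ∈ G ∧ ((g a = a ∧ g b = b) ∨ (g a = b ∧ g b = a))}
  one_mem' := ⟨one_mem G, Or.inl ⟨rfl, rfl⟩⟩
  mul_mem' := by
    rintro g h ⟨hg, hg'⟩ ⟨hh, hh'⟩
    refine ⟨mul_mem hg hh, ?_⟩
    rcases hg' with ⟨e1, e2⟩ | ⟨e1, e2⟩ <;> rcases hh' with ⟨f1, f2⟩ | ⟨f1, f2⟩ <;>
      simp [Perm.mul_apply, e1, e2, f1, f2]
  inv_mem' := by
    rintro g ⟨hg, hg'⟩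
    refine ⟨inv_mem hg, ?_⟩
    rcases hg' with ⟨e1, e2⟩ | ⟨e1, e2⟩
    · exact Or.inl ⟨by rw [Perm.inv_eq_iff_eq, e1], by rw [Perm.inv_eq_iff_eq, e2]⟩
    · exact Or.inr ⟨by rw [Perm.inv_eq_iff_eq, e2], by rw [Perm.inv_eq_iff_eq, e1]⟩

/-- The remaining points. -/
abbrev Rest (a b : α) : Type _ := {z : α // z ≠ a ∧ z ≠ b}

variable {a b : α}

theorem Pair.maps (g : ↥(Pair G a b)) {z : α} (hz : z ≠ a ∧ z ≠ b) :
    (g : Perm α) z ≠ a ∧ (g : Perm α) z ≠ b := by
  rcases g.2.2 with ⟨e1, e2⟩ | ⟨e1, e2⟩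
  · exact ⟨fun h => hz.1 ((g : Perm α).injective (h.trans e1.symm)),
      fun h => hz.2 ((g : Perm α).injective (h.trans e2.symm))⟩
  · exact ⟨fun h => hz.2 ((g : Perm α).injective (h.trans e2.symm)),
      fun h => hz.1 ((g : Perm α).injective (h.trans e1.symm))⟩

instance pairAction : MulAction ↥(Pair G a b) (Rest a b) where
  smul g z := ⟨(g : Perm α) z, Pair.maps g z.2⟩
  one_smul z := rfl
  mul_smul g h z := rfl

theorem pair_smul_val (g : ↥(Pair G a b)) (z : Rest a b) : ((g • z : Rest a b) : α) = (g : Perm α) z := rfl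

/-- The pointwise stabiliser inside the setwise one. -/
def Fix (G : Subgroup (Perm α)) (a b : α) : Subgroup ↥(Pair G a b) where
  carrier := {g | (g : Perm α) a = a ∧ (g : Perm α) b = b}
  one_mem' := ⟨rfl, rfl⟩
  mul_mem' := fun {g h} hg hh => ⟨by simp [hh.1, hg.1], by simp [hh.2, hg.2]⟩
  inv_mem' := fun {g} hg => ⟨by
    show (g : Perm α)⁻¹ a = a
    rw [Perm.inv_eq_iff_eq, hg.1], by
    show (g : Perm α)⁻¹ b = b
    rw [Perm.inv_eq_iff_eq, hg.2]⟩

theorem mem_Fix {g : ↥(Pair G a b)} : g ∈ Fix G a b ↔ (g : Perm α) a = a ∧ (g : Perm α) b = b := Iff.rfl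

theorem Twin.faithful (T : Twin G p q) (hab : a ≠ b) : FaithfulSMul ↥(Pair G a b) (Rest a b) := by
  refine ⟨fun {g h} e => ?_⟩
  suffices hk : ∀ k : ↥(Pair G a b), (∀ z : Rest a b, k • z = z) → k = 1 by
    exact (inv_mul_eq_one.1 (hk (h⁻¹ * g) fun z => by rw [mul_smul, e z, inv_smul_smul])).symm
  intro k hk
  have hz : ∀ z, z ≠ a → z ≠ b → (k : Perm α) z = z := fun z h1 h2 => congrArg Subtype.val (hk ⟨z, h1, h2⟩)
  rcases k.2.2 with ⟨e1, e2⟩ | ⟨e1, e2⟩
  · refine Subtype.ext (Equiv.ext fun z => ?_)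
    show (k : Perm α) z = z
    by_cases h1 : z = a
    · rw [h1, e1]
    by_cases h2 : z = b
    · rw [h2, e2]
    exact hz z h1 h2
  · exfalso
    refine T.no_swap hab ?_
    convert k.2.1 using 1
    refine Equiv.ext fun z => ?_
    by_cases h1 : z = a
    · rw [h1, e1, Equiv.swap_apply_left]
    by_cases h2 : z = b
    · rw [h2, e2, Equiv.swap_apply_right]
    rw [hz z h1 h2, Equiv.swap_apply_of_ne_of_ne h1 h2]

theorem Twin.fix_trans (T : Twin G p q) (hab : a ≠ b) : MulAction.IsPretransitive ↥(Fix G a b) (Rest a b) := by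
  refine ⟨fun c d => ?_⟩
  obtain ⟨g, hg, ha, hb, hc⟩ := T.three hab c.2.1 c.2.2 d.2.1 d.2.2
  exact ⟨⟨⟨g, hg, Or.inl ⟨ha, hb⟩⟩, ha, hb⟩, Subtype.ext hc⟩

theorem Twin.card_rest (T : Twin G p q) (hab : a ≠ b) : Fintype.card (Rest a b) = q := by
  rw [Fintype.card_subtype]
  have : univ.filter (fun z => z ≠ a ∧ z ≠ b) = univ \ {a, b} := by ext z; simp
  rw [this, card_sdiff_of_subset (subset_univ _), card_univ, T.hα, card_pair hab, T.hpq]
  omega

theorem Twin.card_G (T : Twin G p q) (hab : a ≠ b) : Nat.card G = p * (p - 1) * Nat.card (Fix G a b) := by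
  have horb : MulAction.orbit ↥G (a, b) = {z : α × α | z.1 ≠ z.2} := by
    ext ⟨c, d⟩
    constructor
    · rintro ⟨g, hg⟩ e
      have h1 : (g : Perm α) a = c := congrArg Prod.fst hg
      have h2 : (g : Perm α) b = d := congrArg Prod.snd hg
      exact hab ((g : Perm α).injective (h1.trans (e.trans h2.symm)))
    · intro h
      obtain ⟨g, hg, h1, h2⟩ := T.two hab h
      exact ⟨⟨g, hg⟩, Prod.ext h1 h2⟩
  have hst : Nat.card (MulAction.stabilizer ↥G (a, b)) = Nat.card (Fix G a b) := Nat.card_congr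
    { toFun := fun g => ⟨⟨(g : ↥G), (g : ↥G).2, Or.inl ⟨congrArg Prod.fst g.2, congrArg Prod.snd g.2⟩⟩,
        congrArg Prod.fst g.2, congrArg Prod.snd g.2⟩
      invFun := fun g => ⟨⟨((g : ↥(Pair G a b)) : Perm α), (g : ↥(Pair G a b)).2.1⟩,
        Prod.ext g.2.1 g.2.2⟩
      left_inv := fun g => rfl
      right_inv := fun g => rfl }
  have hoff : Nat.card (MulAction.orbit ↥G (a, b)) = p * (p - 1) := by
    rw [horb, Nat.card_coe_set_eq, Set.ncard_eq_toFinset_card', show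
      ({z : α × α | z.1 ≠ z.2} : Set (α × α)).toFinset = (univ : Finset α).offDiag by ext z; simp,
      offDiag_card, card_univ, T.hα, Nat.mul_sub, mul_one]
  rw [← Subgroup.index_mul_card (MulAction.stabilizer ↥G (a, b)), hst, MulAction.index_stabilizer,
    ← Nat.card_coe_set_eq, hoff]

theorem Twin.fix_ins (T : Twin G p q) (hab : a ≠ b) : ¬ Group.IsSolvable ↥(Fix G a b) := by
  intro hs
  haveI := Fact.mk T.hp
  haveI := T.faithful hab
  haveI := T.fix_trans hab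
  haveI : FaithfulSMul ↥(Fix G a b) (Rest a b) :=
    ⟨fun {g h} e => Subtype.ext (FaithfulSMul.eq_of_smul_eq_smul (α := Rest a b) fun z => e z)⟩
  obtain ⟨d, hd, hdq⟩ := solvable_prime (X := Rest a b) T.hq
    (by rw [Nat.card_eq_fintype_card, T.card_rest hab]) hs
  obtain ⟨P, hP⟩ := T.hN
  have h1 : Nat.card (Sylow p ↥G) = (Subgroup.normalizer ((P : Subgroup ↥G) : Set ↥G)).index :=
    P.card_eq_index_normalizer
  have h2 := Subgroup.index_mul_card (Subgroup.normalizer ((P : Subgroup ↥G) : Set ↥G))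
  have h3 := card_sylow_modEq_one p ↥G
  have hq5 := T.hq5
  have hpq := T.hpq
  have hn : Nat.card (Sylow p ↥G) = 2 * (q * d) := by
    rw [← h1, T.card_G hab, hd] at h2
    have e : Nat.card (Sylow p ↥G) * (p * (p - 1)) = 2 * (q * d) * (p * (p - 1)) := by
      rw [← hP]
      calc Nat.card (Sylow p ↥G) * (2 * Nat.card ↥(Subgroup.normalizer ((P : Subgroup ↥G) : Set ↥G)))
          = 2 * (Nat.card (Sylow p ↥G) * Nat.card ↥(Subgroup.normalizer ((P : Subgroup ↥G) : Set ↥G))) := by ring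
        _ = _ := by rw [h2, hP]; ring
    exact Nat.eq_of_mul_eq_mul_right (Nat.mul_pos (by omega) (by omega)) e
  have hdpos : 0 < d := Nat.pos_of_ne_zero fun h => by
    rw [h, mul_zero] at hd; exact Nat.card_pos.ne' hd
  have hle : d ≤ q - 1 := Nat.le_of_dvd (by omega) hdq
  have hdvd : p ∣ 4 * d + 1 := by
    rw [hn] at h3
    have h4 : (2 * (q * d) + 4 * d) % p = 0 := by
      rw [show 2 * (q * d) + 4 * d = p * (2 * d) by rw [hpq]; ring]
      exact Nat.mul_mod_right _ _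
    have h5 : (2 * (q * d) + 4 * d) % p = (1 + 4 * d) % p := Nat.ModEq.add_right _ h3
    rw [h5, add_comm] at h4
    exact Nat.dvd_of_mod_eq_zero h4
  obtain ⟨j, hj⟩ := hdvd
  obtain ⟨m, hm⟩ := hdq
  have hj4 : j < 4 := by
    by_contra h
    have : p * 4 ≤ p * j := Nat.mul_le_mul_left p (not_lt.1 h)
    omega
  have hqp := T.hq
  have hpp := T.hp
  have hqo := T.qodd
  interval_cases j
  · omega
  · have h8 : d * m + 2 = 4 * d := by omega
    have : d ∣ 2 := (Nat.dvd_add_right (Dvd.intro m rfl)).1 (h8 ▸ Dvd.intro_left 4 rfl)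
    have hd2 := Nat.le_of_dvd (by norm_num) this
    have : q = 7 := by omega
    rw [hpq, this] at hpp
    norm_num at hpp
  · omega
  · have h8 : 3 * (d * m) + 8 = 4 * d := by omega
    rcases m with _ | _ | m
    · omega
    · have : q = 9 := by omega
      rw [this] at hqp
      norm_num at hqp
    · rw [show d * (m + 1 + 1) = d * m + 2 * d by ring] at h8
      omega

theorem Twin.four (T : Twin G p q) {a b c d c' d' : α} (hab : a ≠ b) (hc : c ≠ a ∧ c ≠ b) (hd : d ≠ a ∧ d ≠ b)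
    (hc' : c' ≠ a ∧ c' ≠ b) (hd' : d' ≠ a ∧ d' ≠ b) (hcd : c ≠ d) (hcd' : c' ≠ d') :
    ∃ g ∈ G, g a = a ∧ g b = b ∧ g c = c' ∧ g d = d' := by
  haveI := Fact.mk T.hq
  haveI := T.faithful hab
  haveI := T.fix_trans hab
  haveI : FaithfulSMul ↥(Fix G a b) (Rest a b) :=
    ⟨fun {g h} e => Subtype.ext (FaithfulSMul.eq_of_smul_eq_smul (α := Rest a b) fun z => e z)⟩
  obtain ⟨g, h1, h2⟩ := CfsgLib.HalfNormalizer.two_transitive (G := ↥(Fix G a b)) (T.card_rest hab)
    (T.fix_ins hab) (a := ⟨c, hc⟩) (b := ⟨d, hd⟩) (c := ⟨c', hc'⟩) (d := ⟨d', hd'⟩)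
    (fun h => hcd (congrArg Subtype.val h)) (fun h => hcd' (congrArg Subtype.val h))
  exact ⟨((g : ↥(Pair G a b)) : Perm α), (g : ↥(Pair G a b)).2.1, g.2.1, g.2.2,
    congrArg Subtype.val h1, congrArg Subtype.val h2⟩

theorem Twin.pair_three (T : Twin G p q) (hab : a ≠ b) :
    MulAction.IsMultiplyPretransitive ↥(Pair G a b) (Rest a b) 3 := by
  haveI := Fact.mk T.hq
  haveI := T.faithful hab
  haveI := T.fix_trans hab
  haveI : MulAction.IsPretransitive ↥(Pair G a b) (Rest a b) :=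
    ⟨fun c d => (MulAction.exists_smul_eq ↥(Fix G a b) c d).imp' Subtype.val fun g h => h⟩
  have hins : ¬ Group.IsSolvable ↥(Pair G a b) := fun h => T.fix_ins hab
    (solvable_of_solvable_injective (f := (Fix G a b).subtype) (Fix G a b).subtype_injective)
  obtain ⟨τ, hτ, hτa, hτb⟩ := T.two hab hab.symm
  set H := Fix G a b with hH
  let t : ↥(Pair G a b) := ⟨τ, hτ, Or.inr ⟨hτa, hτb⟩⟩
  have ht : t ∉ H := fun h => hab (h.1.symm.trans hτa)
  have hsw : ∀ g : ↥(Pair G a b), g ∉ H → (g : Perm α) a = b ∧ (g : Perm α) b = a := fun g hg =>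
    g.2.2.resolve_left hg
  have hidx : H.index = 2 := by
    refine Subgroup.index_eq_two_iff.2 ⟨t, fun g => ?_⟩
    by_cases hg : g ∈ H
    · exact Or.inr ⟨hg, fun h => ht ((H.mul_mem_cancel_left hg).1 h)⟩
    · refine Or.inl ⟨?_, hg⟩
      obtain ⟨e1, e2⟩ := hsw g hg
      exact ⟨by simp [t, hτa, e2], by simp [t, hτb, e1]⟩
  haveI : H.Normal := Subgroup.normal_of_index_eq_two hidx
  let Q₀ : Sylow q ↥H := Classical.arbitrary _
  have hsup := Sylow.normalizer_sup_eq_top Q₀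
  have hnd : ¬ q ∣ H.index := by
    rw [hidx]; intro h; have := Nat.le_of_dvd (by norm_num) h; have := T.hq5; omega
  have hcard : Nat.card ↥((Q₀ : Subgroup ↥H).map H.subtype) = q ^ (Nat.card ↥(Pair G a b)).factorization q := by
    rw [Subgroup.card_map_of_injective H.subtype_injective, Q₀.card_eq_multiplicity,
      ← Subgroup.index_mul_card H, Nat.factorization_mul Subgroup.index_ne_zero_of_finite Nat.card_pos.ne',
      Finsupp.add_apply, Nat.factorization_eq_zero_of_not_dvd hnd, zero_add]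
  let Q : Sylow q ↥(Pair G a b) := Sylow.ofCard _ hcard
  refine CfsgLib.HalfNormalizer.three_transitive_of_even (T.card_rest hab) hins Q ?_
  by_contra hodd
  apply ht
  have hle : Subgroup.normalizer (((Q₀ : Subgroup ↥H).map H.subtype : Subgroup ↥(Pair G a b)) :
      Set ↥(Pair G a b)) ≤ H := by
    intro g hg
    have hod : Odd (orderOf g) := (Nat.not_even_iff_odd.1 hodd).of_dvd_nat (Subgroup.orderOf_dvd_natCard _ hg)
    obtain ⟨k, hk⟩ := hod
    have h2 : g ^ 2 ∈ H := by rw [← hidx]; exact H.pow_index_mem g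
    have : g = (g ^ 2) ^ (k + 1) := by
      rw [← pow_mul, show 2 * (k + 1) = orderOf g + 1 by omega, pow_succ, pow_orderOf_eq_one, one_mul]
    rw [this]
    exact pow_mem h2 _
  have : (⊤ : Subgroup ↥(Pair G a b)) ≤ H := hsup ▸ sup_le hle le_rfl
  exact this (Subgroup.mem_top t)

theorem Twin.five (T : Twin G p q) {a b u v w z : α} (hab : a ≠ b) (hu : u ≠ a ∧ u ≠ b) (hv : v ≠ a ∧ v ≠ b)
    (huv : u ≠ v) (hw : w ≠ a ∧ w ≠ b ∧ w ≠ u ∧ w ≠ v) (hz : z ≠ a ∧ z ≠ b ∧ z ≠ u ∧ z ≠ v) :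
    ∃ g ∈ G, g a = a ∧ g b = b ∧ g u = u ∧ g v = v ∧ g w = z := by
  set O := univ.filter fun y => ∃ g ∈ G, g a = a ∧ g b = b ∧ g u = u ∧ g v = v ∧ g w = y with hO
  have hmem : ∀ y, y ∈ O ↔ ∃ g ∈ G, g a = a ∧ g b = b ∧ g u = u ∧ g v = v ∧ g w = y := fun y => by simp [hO]
  suffices z ∈ O from (hmem z).1 this
  by_contra hzO
  have h3 := T.pair_three hab
  have mk : ∀ y, (y ≠ a ∧ y ≠ b ∧ y ≠ u ∧ y ≠ v) → ∃ g ∈ G, ((g a = a ∧ g b = b) ∨ (g a = b ∧ g b = a)) ∧
      g u = u ∧ g v = v ∧ g w = y := by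
    intro y hy
    have inj : ∀ (s : α) (hs : s ≠ a ∧ s ≠ b ∧ s ≠ u ∧ s ≠ v),
        Function.Injective ![(⟨u, hu⟩ : Rest a b), ⟨v, hv⟩, ⟨s, hs.1, hs.2.1⟩] := by
      intro s hs i j h
      fin_cases i <;> fin_cases j <;>
        simp_all [Subtype.mk.injEq, huv.symm, hs.2.2.1.symm, hs.2.2.2.symm]
    obtain ⟨g, hg⟩ := h3.exists_smul_eq ⟨_, inj w hw⟩ ⟨_, inj y hy⟩
    exact ⟨(g : Perm α), g.2.1, g.2.2, congrArg Subtype.val (DFunLike.congr_fun hg 0),
      congrArg Subtype.val (DFunLike.congr_fun hg 1), congrArg Subtype.val (DFunLike.congr_fun hg 2)⟩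
  obtain ⟨g0, hg0, h0, h0u, h0v, h0w⟩ := mk z hz
  rcases h0 with ⟨h0a, h0b⟩ | ⟨h0a, h0b⟩
  · exact hzO ((hmem z).2 ⟨g0, hg0, h0a, h0b, h0u, h0v, h0w⟩)
  set R := univ.filter fun y => y ≠ a ∧ y ≠ b ∧ y ≠ u ∧ y ≠ v with hR
  have hOR : ∀ y ∈ O, y ≠ a ∧ y ≠ b ∧ y ≠ u ∧ y ≠ v := by
    intro y hy
    obtain ⟨g, -, e1, e2, e3, e4, rfl⟩ := (hmem y).1 hy
    exact ⟨fun h => hw.1 (g.injective (h.trans e1.symm)), fun h => hw.2.1 (g.injective (h.trans e2.symm)),
      fun h => hw.2.2.1 (g.injective (h.trans e3.symm)), fun h => hw.2.2.2 (g.injective (h.trans e4.symm))⟩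
  have hsplit : R = O ∪ O.image g0 := by
    ext y
    simp only [hR, mem_union, mem_filter, mem_univ, true_and, mem_image]
    constructor
    · intro hy
      obtain ⟨g, hg, hab', hgu, hgv, hgw⟩ := mk y hy
      rcases hab' with ⟨e1, e2⟩ | ⟨e1, e2⟩
      · exact Or.inl ((hmem y).2 ⟨g, hg, e1, e2, hgu, hgv, hgw⟩)
      · refine Or.inr ⟨g0⁻¹ y, (hmem _).2 ⟨g0⁻¹ * g, mul_mem (inv_mem hg0) hg, ?_, ?_, ?_, ?_, ?_⟩,
          Perm.eq_inv_iff_eq.1 rfl⟩
        · rw [Perm.mul_apply, e1, Perm.inv_eq_iff_eq, h0a]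
        · rw [Perm.mul_apply, e2, Perm.inv_eq_iff_eq, h0b]
        · rw [Perm.mul_apply, hgu, Perm.inv_eq_iff_eq, h0u]
        · rw [Perm.mul_apply, hgv, Perm.inv_eq_iff_eq, h0v]
        · rw [Perm.mul_apply, hgw]
    · rintro (hy | ⟨x, hx, rfl⟩)
      · exact hOR y hy
      · obtain ⟨x1, x2, x3, x4⟩ := hOR x hx
        exact ⟨fun h => x2 (g0.injective (h.trans h0b.symm)), fun h => x1 (g0.injective (h.trans h0a.symm)),
          fun h => x3 (g0.injective (h.trans h0u.symm)), fun h => x4 (g0.injective (h.trans h0v.symm))⟩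
  have hdisj : Disjoint O (O.image g0) := by
    rw [disjoint_left]
    intro y hy hy'
    obtain ⟨x, hx, rfl⟩ := mem_image.1 hy'
    obtain ⟨g, hg, e1, e2, e3, e4, rfl⟩ := (hmem x).1 hx
    obtain ⟨g', hg', f1, f2, f3, f4, f5⟩ := (hmem _).1 hy
    refine hzO ((hmem z).2 ⟨g0 * (g'⁻¹ * (g0 * g)), mul_mem hg0 (mul_mem (inv_mem hg') (mul_mem hg0 hg)),
      ?_, ?_, ?_, ?_, ?_⟩)
    · rw [Perm.mul_apply, Perm.mul_apply, Perm.mul_apply, e1, h0a, show g'⁻¹ b = b by rw [Perm.inv_eq_iff_eq, f2],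
        h0b]
    · rw [Perm.mul_apply, Perm.mul_apply, Perm.mul_apply, e2, h0b, show g'⁻¹ a = a by rw [Perm.inv_eq_iff_eq, f1],
        h0a]
    · rw [Perm.mul_apply, Perm.mul_apply, Perm.mul_apply, e3, h0u, show g'⁻¹ u = u by rw [Perm.inv_eq_iff_eq, f3],
        h0u]
    · rw [Perm.mul_apply, Perm.mul_apply, Perm.mul_apply, e4, h0v, show g'⁻¹ v = v by rw [Perm.inv_eq_iff_eq, f4],
        h0v]
    · rw [Perm.mul_apply, Perm.mul_apply, Perm.mul_apply, ← f5, Perm.inv_def, Equiv.symm_apply_apply, h0w]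
  have hcard : R.card = p - 4 := by
    have : R = univ \ {a, b, u, v} := by ext y; simp [hR]
    rw [this, card_sdiff_of_subset (subset_univ _), card_univ, T.hα, card_insert_of_notMem, card_insert_of_notMem,
      card_pair huv]
    · simp [hu.2.symm, hv.2.symm]
    · simp [hab, hu.1.symm, hv.1.symm]
  rw [hsplit, card_union_of_disjoint hdisj, card_image_of_injective _ g0.injective] at hcard
  have := T.qodd
  have := T.hpq
  have := T.hq5
  omega

/-- Five transitivity. -/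
theorem Twin.five_transitive (T : Twin G p q) : MulAction.IsMultiplyPretransitive ↥G α 5 := by
  refine MulAction.isMultiplyPretransitive_iff.2 fun {v v'} => ?_
  have nv : ∀ i j, i ≠ j → v i ≠ v j := fun i j h => v.injective.ne h
  have nv' : ∀ i j, i ≠ j → v' i ≠ v' j := fun i j h => v'.injective.ne h
  obtain ⟨g1, hg1, a0, a1⟩ := T.two (nv 0 1 (by decide)) (nv' 0 1 (by decide))
  have s1 : ∀ i, i ≠ 0 → i ≠ 1 → g1 (v i) ≠ v' 0 ∧ g1 (v i) ≠ v' 1 := fun i h h' =>
    ⟨a0 ▸ g1.injective.ne (nv i 0 h), a1 ▸ g1.injective.ne (nv i 1 h')⟩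
  obtain ⟨g2, hg2, b0, b1, b2⟩ := T.three (nv' 0 1 (by decide)) (s1 2 (by decide) (by decide)).1
    (s1 2 (by decide) (by decide)).2 (nv' 2 0 (by decide)) (nv' 2 1 (by decide))
  set h2 := g2 * g1 with hh2
  have c0 : h2 (v 0) = v' 0 := by rw [hh2, Perm.mul_apply, a0, b0]
  have c1 : h2 (v 1) = v' 1 := by rw [hh2, Perm.mul_apply, a1, b1]
  have c2 : h2 (v 2) = v' 2 := by rw [hh2, Perm.mul_apply, b2]
  have s2 : ∀ i, i ≠ 0 → i ≠ 1 → i ≠ 2 → h2 (v i) ≠ v' 0 ∧ h2 (v i) ≠ v' 1 ∧ h2 (v i) ≠ v' 2 := fun i h h' h'' =>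
    ⟨c0 ▸ h2.injective.ne (nv i 0 h), c1 ▸ h2.injective.ne (nv i 1 h'), c2 ▸ h2.injective.ne (nv i 2 h'')⟩
  obtain ⟨t1, t2, t3⟩ := s2 3 (by decide) (by decide) (by decide)
  obtain ⟨g3, hg3, d0, d1, d2, d3⟩ := T.four (nv' 0 1 (by decide)) ⟨nv' 2 0 (by decide), nv' 2 1 (by decide)⟩
    ⟨t1, t2⟩ ⟨nv' 2 0 (by decide), nv' 2 1 (by decide)⟩ ⟨nv' 3 0 (by decide), nv' 3 1 (by decide)⟩ t3.symm
    (nv' 2 3 (by decide))
  set h3 := g3 * h2 with hh3
  have e0 : h3 (v 0) = v' 0 := by rw [hh3, Perm.mul_apply, c0, d0]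
  have e1 : h3 (v 1) = v' 1 := by rw [hh3, Perm.mul_apply, c1, d1]
  have e2 : h3 (v 2) = v' 2 := by rw [hh3, Perm.mul_apply, c2, d2]
  have e3 : h3 (v 3) = v' 3 := by rw [hh3, Perm.mul_apply, d3]
  obtain ⟨g4, hg4, f0, f1, f2, f3, f4⟩ := T.five (nv' 0 1 (by decide))
    ⟨nv' 2 0 (by decide), nv' 2 1 (by decide)⟩ ⟨nv' 3 0 (by decide), nv' 3 1 (by decide)⟩ (nv' 2 3 (by decide))
    (w := h3 (v 4)) ⟨e0 ▸ h3.injective.ne (nv 4 0 (by decide)), e1 ▸ h3.injective.ne (nv 4 1 (by decide)),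
      e2 ▸ h3.injective.ne (nv 4 2 (by decide)), e3 ▸ h3.injective.ne (nv 4 3 (by decide))⟩
    (z := v' 4) ⟨nv' 4 0 (by decide), nv' 4 1 (by decide), nv' 4 2 (by decide), nv' 4 3 (by decide)⟩
  refine ⟨⟨g4 * h3, mul_mem hg4 (mul_mem hg3 (mul_mem hg2 hg1))⟩, ?_⟩
  ext i
  show (g4 * h3) (v i) = v' i
  rw [Perm.mul_apply]
  fin_cases i
  · exact (congrArg g4 e0).trans f0
  · exact (congrArg g4 e1).trans f1
  · exact (congrArg g4 e2).trans f2
  · exact (congrArg g4 e3).trans f3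
  · exact f4

end

end Cfsg.Agent.Lib.TwinPrime
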