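import Mathlib

/-!
A group with primitive point stabilisers whose two-point stabilisers have two orbits of coprime lengths on the
remaining points does not exist.
-/

set_option autoImplicit false

namespace Cfsg.Agent.Lib.TwinPrime

open Finset Equiv

noncomputable section

attribute [local instance] Classical.propDecidable

variable {α : Type*}

/-- `d` is in the orbit of `c` under the stabiliser of `a` and `b`. -/
def Orb (G : Subgroup (Perm α)) (a b c d : α) : Prop := ∃ g ∈ G, g a = a ∧ g b = b ∧ g c = d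

variable {G : Subgroup (Perm α)} {a b c d e : α}

theorem Orb.refl : Orb G a b c c := ⟨1, one_mem G, rfl, rfl, rfl⟩

theorem Orb.symm (h : Orb G a b c d) : Orb G a b d c := by
  obtain ⟨g, hg, ha, hb, hc⟩ := h
  exact ⟨g⁻¹, inv_mem hg, by rw [Perm.inv_eq_iff_eq, ha], by rw [Perm.inv_eq_iff_eq, hb],
    by rw [Perm.inv_eq_iff_eq, hc]⟩

theorem Orb.trans (h : Orb G a b c d) (h' : Orb G a b d e) : Orb G a b c e := by
  obtain ⟨g, hg, ha, hb, hc⟩ := h
  obtain ⟨g', hg', ha', hb', hc'⟩ := h'
  exact ⟨g' * g, mul_mem hg' hg, by simp [ha, ha'], by simp [hb, hb'], by simp [hc, hc']⟩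

theorem Orb.ne (h : Orb G a b c d) (h1 : c ≠ a) (h2 : c ≠ b) : d ≠ a ∧ d ≠ b := by
  obtain ⟨g, -, ha, hb, rfl⟩ := h
  exact ⟨fun e => h1 (g.injective (e.trans ha.symm)), fun e => h2 (g.injective (e.trans hb.symm))⟩

variable [Fintype α]

/-- The orbit of `c`. -/
def Dset (G : Subgroup (Perm α)) (a b c : α) : Finset α := univ.filter (Orb G a b c)

theorem mem_Dset : d ∈ Dset G a b c ↔ Orb G a b c d := by simp [Dset]

/-- The orbital graph of `c` at `a`. -/
def Edge (G : Subgroup (Perm α)) (a b c u v : α) : Prop :=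
  ∃ g ∈ G, g a = a ∧ g b = u ∧ ∃ z, Orb G a b c z ∧ g z = v

/-- The neighbours. -/
def Nbr (G : Subgroup (Perm α)) (a b c u : α) : Finset α := univ.filter (Edge G a b c u)

theorem mem_Nbr {u v : α} : v ∈ Nbr G a b c u ↔ Edge G a b c u v := by simp [Nbr]

theorem edge_iff {g : Perm α} (hg : g ∈ G) (ha : g a = a) {z : α} :
    Edge G a b c (g b) (g z) ↔ Orb G a b c z := by
  refine ⟨?_, fun h => ⟨g, hg, ha, rfl, z, h, rfl⟩⟩
  rintro ⟨g', hg', ha', hb', z', hz', he⟩
  exact hz'.trans ⟨g⁻¹ * g', mul_mem (inv_mem hg) hg', by rw [Perm.mul_apply, ha', Perm.inv_eq_iff_eq, ha],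
    by rw [Perm.mul_apply, hb', Perm.inv_eq_iff_eq], by rw [Perm.mul_apply, he, Perm.inv_eq_iff_eq]⟩

theorem edge_base {z : α} : Edge G a b c b z ↔ Orb G a b c z := edge_iff (g := 1) (one_mem G) rfl

theorem Edge.map {u v : α} (h : Edge G a b c u v) {k : Perm α} (hk : k ∈ G) (ka : k a = a) :
    Edge G a b c (k u) (k v) := by
  obtain ⟨g, hg, ha, rfl, z, hz, rfl⟩ := h
  exact ⟨k * g, mul_mem hk hg, by simp [ha, ka], rfl, z, hz, rfl⟩

theorem edge_map_iff {u v : α} {k : Perm α} (hk : k ∈ G) (ka : k a = a) :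
    Edge G a b c (k u) (k v) ↔ Edge G a b c u v := by
  refine ⟨fun h => ?_, fun h => h.map hk ka⟩
  have := h.map (inv_mem hk) (by rw [Perm.inv_eq_iff_eq, ka])
  simpa using this

theorem nbr_map {u : α} {k : Perm α} (hk : k ∈ G) (ka : k a = a) :
    Nbr G a b c (k u) = (Nbr G a b c u).image k := by
  ext v
  obtain ⟨w, rfl⟩ : ∃ w, k w = v := ⟨k.symm v, k.apply_symm_apply v⟩
  rw [mem_Nbr, edge_map_iff hk ka, mem_image]
  exact ⟨fun h => ⟨w, mem_Nbr.2 h, rfl⟩, fun ⟨w', hw', e⟩ => k.injective e ▸ mem_Nbr.1 hw'⟩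

theorem Edge.ne {u v : α} (h : Edge G a b c u v) (hba : b ≠ a) (hca : c ≠ a) (hcb : c ≠ b) :
    u ≠ a ∧ v ≠ a ∧ u ≠ v := by
  obtain ⟨g, -, ha, rfl, z, hz, rfl⟩ := h
  obtain ⟨hza, hzb⟩ := hz.ne hca hcb
  exact ⟨fun e => hba (g.injective (e.trans ha.symm)), fun e => hza (g.injective (e.trans ha.symm)),
    fun e => hzb (g.injective e).symm⟩

variable (hab : a ≠ b) (hca : c ≠ a) (hcb : c ≠ b)
  (h2 : ∀ u v : α, u ≠ a → v ≠ a → ∃ g ∈ G, g a = a ∧ g u = v)

include hab hca hcb h2 in
theorem card_nbr {u : α} (hu : u ≠ a) : (Nbr G a b c u).card = (Dset G a b c).card := by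
  obtain ⟨g, hg, ha, rfl⟩ := h2 b u hab.symm hu
  rw [nbr_map hg ha, card_image_of_injective _ g.injective]
  congr 1
  ext z
  rw [mem_Nbr, mem_Dset, edge_base]

include hab hca hcb h2 in
/-- If the neighbours of `b` are only adjacent to each other, they form a block with `b`. -/
theorem no_closed (hprim : MulAction.IsPreprimitive ↥(MulAction.stabilizer ↥G a)
      ↥(SubMulAction.ofStabilizer ↥G a))
    (hd : ∃ z, z ≠ a ∧ z ≠ b ∧ ¬ Orb G a b c z)
    (hcl : ∀ v, Orb G a b c v → ∀ w, Edge G a b c v w → w = b ∨ Orb G a b c w) : False := by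
  set B := insert b (Dset G a b c) with hB
  have hclN : ∀ u ∈ B, insert u (Nbr G a b c u) = B := by
    intro u hu
    have hua : u ≠ a := by
      rcases mem_insert.1 hu with rfl | h
      · exact hab.symm
      · exact ((mem_Dset.1 h).ne hca hcb).1
    refine eq_of_subset_of_card_le (insert_subset hu fun w hw => ?_) ?_
    · rcases mem_insert.1 hu with rfl | h
      · exact mem_insert_of_mem (mem_Dset.2 (edge_base.1 (mem_Nbr.1 hw)))
      · rcases hcl u (mem_Dset.1 h) w (mem_Nbr.1 hw) with rfl | h'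
        · exact mem_insert_self _ _
        · exact mem_insert_of_mem (mem_Dset.2 h')
    · rw [card_insert_of_notMem, card_insert_of_notMem, card_nbr hab hca hcb h2 hua]
      · exact fun h => ((mem_Nbr.1 h).ne hab.symm hca hcb).2.2 rfl
      · exact fun h => ((mem_Dset.1 h).ne hca hcb).2 rfl
  have hBa : ∀ u ∈ B, u ≠ a := by
    intro u hu
    rcases mem_insert.1 hu with rfl | h
    · exact hab.symm
    · exact ((mem_Dset.1 h).ne hca hcb).1
  set B' : Set ↥(SubMulAction.ofStabilizer ↥G a) := {x | (x : α) ∈ B}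
  have hblock : MulAction.IsBlock ↥(MulAction.stabilizer ↥G a) B' := by
    rw [MulAction.isBlock_iff_smul_eq_of_nonempty]
    intro g hne
    obtain ⟨x, hx1, hx2⟩ := hne
    obtain ⟨y, hy, rfl⟩ := Set.mem_smul_set.1 hx1
    set k : Perm α := ((g : ↥G) : Perm α)
    have hk : k ∈ G := (g : ↥G).2
    have ka : k a = a := g.2
    have himg : B.image k = B := by
      rw [← hclN (y : α) hy, image_insert, ← nbr_map hk ka, hclN (y : α) hy]
      exact hclN (k (y : α)) hx2
    ext z
    constructor
    · rintro ⟨w, hw, rfl⟩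
      show k (w : α) ∈ B
      rw [← himg]
      exact mem_image_of_mem k hw
    · intro hz
      obtain ⟨w, hw, hwz⟩ := mem_image.1 (show (z : α) ∈ B.image k by rw [himg]; exact hz)
      refine ⟨⟨w, fun h => hBa w hw (by simpa using h)⟩, hw, Subtype.ext hwz⟩
  obtain ⟨z, hza, hzb, hz⟩ := hd
  rcases hprim.isTrivialBlock_of_isBlock hblock with h | h
  · have h1 : (⟨b, fun h => hab (by simpa using h.symm)⟩ : ↥(SubMulAction.ofStabilizer ↥G a)) ∈ B' :=
      mem_insert_self _ _
    have h2' : (⟨c, fun h => hca (by simpa using h)⟩ : ↥(SubMulAction.ofStabilizer ↥G a)) ∈ B' :=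
      mem_insert_of_mem (mem_Dset.2 Orb.refl)
    exact hcb (congrArg Subtype.val (h h2' h1))
  · have : (⟨z, fun h => hza (by simpa using h)⟩ : ↥(SubMulAction.ofStabilizer ↥G a)) ∈ B' := h ▸ Set.mem_univ _
    rcases mem_insert.1 this with e | e
    · exact hzb e
    · exact hz (mem_Dset.1 e)

omit [Fintype α] in
theorem not_coprime_block {k l β γ : ℕ} (hk : 0 < k) (hl : 0 < l) (hco : k.Coprime l) (hβ : β ≤ l) (hγ : γ ≤ k)
    (h : k * β = l * γ) : β = 0 ∨ γ = k := by
  have h1 : l ∣ β := (Nat.Coprime.symm hco).dvd_of_dvd_mul_left ⟨γ, h⟩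
  rcases Nat.eq_zero_or_pos β with e | e
  · exact Or.inl e
  · right
    have := le_antisymm hβ (Nat.le_of_dvd e h1)
    subst this
    exact Nat.eq_of_mul_eq_mul_left hl (by rw [← h, Nat.mul_comm])

include hab h2 in
/-- The two orbits have lengths that are not coprime. -/
theorem suborbits_false (hprim : MulAction.IsPreprimitive ↥(MulAction.stabilizer ↥G a)
      ↥(SubMulAction.ofStabilizer ↥G a))
    (hca : c ≠ a) (hcb : c ≠ b) {d : α} (hda : d ≠ a) (hdb : d ≠ b) (hcd : ¬ Orb G a b c d)
    (htwo : ∀ z, z ≠ a → z ≠ b → Orb G a b c z ∨ Orb G a b d z)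
    (hco : (Dset G a b c).card.Coprime (Dset G a b d).card)
    (hne : (Dset G a b c).card ≠ (Dset G a b d).card) : False := by
  have excl : ∀ z, Orb G a b c z → ¬ Orb G a b d z := fun z h h' => hcd (h.trans h'.symm)
  have hcompl : ∀ u v, u ≠ a → v ≠ a → u ≠ v → (Edge G a b d u v ↔ ¬ Edge G a b c u v) := by
    intro u v hu hv huv
    obtain ⟨g, hg, ha, rfl⟩ := h2 b u hab.symm hu
    obtain ⟨z, rfl⟩ : ∃ z, g z = v := ⟨g.symm v, g.apply_symm_apply v⟩
    rw [edge_iff hg ha, edge_iff hg ha]
    refine ⟨fun h h' => excl z h' h, fun h => ?_⟩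
    exact (htwo z (fun e => hv (by rw [e, ha])) (fun e => huv (by rw [e]))).resolve_left h
  have hsymm : ∀ u v, Edge G a b c u v → Edge G a b c v u := by
    intro u v huv
    by_contra hn
    -- one edge is not reversed, so none is
    have hall : ∀ x y, Edge G a b c x y → ¬ Edge G a b c y x := by
      rintro x y ⟨g, hg, ha, rfl, z, hz, rfl⟩ hc'
      obtain ⟨g', hg', ha', rfl, z', hz', rfl⟩ := huv
      obtain ⟨k, hk, ka, kb, kz⟩ := hz.symm.trans hz'
      apply hn
      have := (hc'.map (inv_mem hg) (by rw [Perm.inv_eq_iff_eq, ha])).map hk ka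
      simp only [Perm.inv_def, Equiv.symm_apply_apply, kz, kb] at this
      exact this.map hg' ha'
    have hin : univ.filter (fun v => Edge G a b c v b) = Dset G a b d := by
      ext z
      rw [mem_filter, mem_Dset]
      constructor
      · rintro ⟨-, h⟩
        obtain ⟨hza, -, hzb⟩ := h.ne hab.symm hca hcb
        refine (htwo z hza hzb).resolve_left fun hc' => hall _ _ (edge_base.2 hc') h
      · intro h
        refine ⟨mem_univ _, ?_⟩
        obtain ⟨hza, hzb⟩ := h.ne hda hdb
        -- the non-edge `(b, z)` is a reversed edge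
        have h0 : ¬ Edge G a b c c b := hall _ _ (edge_base.2 Orb.refl)
        have h0' : Edge G a b d c b := (hcompl c b hca hab.symm hcb).2 h0
        obtain ⟨g, hg, ha, gb, y, hy, gy⟩ := h0'
        obtain ⟨k, hk, ka, kb, kz⟩ := hy.symm.trans h
        have hm := ((edge_base.2 (Orb.refl : Orb G a b c c)).map (inv_mem hg)
          (by rw [Perm.inv_eq_iff_eq, ha])).map hk ka
        rw [show g⁻¹ b = y by rw [Perm.inv_eq_iff_eq, gy], show g⁻¹ c = b by rw [Perm.inv_eq_iff_eq, gb],
          kz, kb] at hm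
        exact hm
    have hin' : ∀ u ∈ univ.erase a, (univ.filter fun v => Edge G a b c v u).card = (Dset G a b d).card := by
      intro u hu
      obtain ⟨g, hg, ha, rfl⟩ := h2 b u hab.symm (ne_of_mem_erase hu)
      rw [← hin, ← card_image_of_injective (univ.filter fun v => Edge G a b c v b) g.injective]
      congr 1
      ext v
      obtain ⟨w, rfl⟩ : ∃ w, g w = v := ⟨g.symm v, g.apply_symm_apply v⟩
      simp [edge_map_iff hg ha]
    have hout : ∀ u ∈ univ.erase a, (univ.filter fun v => Edge G a b c u v).card = (Dset G a b c).card :=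
      fun u hu => card_nbr hab hca hcb h2 (ne_of_mem_erase hu)
    have hdc : ∑ u ∈ univ.erase a, (univ.filter fun v => Edge G a b c u v).card =
        ∑ u ∈ univ.erase a, (univ.filter fun v => Edge G a b c v u).card := by
      have e1 : ∀ u, univ.filter (fun v => Edge G a b c u v) = (univ.erase a).filter fun v => Edge G a b c u v :=
        fun u => by
          ext v
          simp only [mem_filter, mem_erase, mem_univ, true_and, and_true]
          exact ⟨fun h => ⟨(h.ne hab.symm hca hcb).2.1, h⟩, And.right⟩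
      have e2 : ∀ u, univ.filter (fun v => Edge G a b c v u) = (univ.erase a).filter fun v => Edge G a b c v u :=
        fun u => by
          ext v
          simp only [mem_filter, mem_erase, mem_univ, true_and, and_true]
          exact ⟨fun h => ⟨(h.ne hab.symm hca hcb).1, h⟩, And.right⟩
      simp only [e1, e2, card_filter]
      exact sum_comm
    rw [sum_congr rfl hout, sum_congr rfl hin', sum_const, sum_const, smul_eq_mul, smul_eq_mul] at hdc
    exact hne (Nat.eq_of_mul_eq_mul_left
      (Finset.card_pos.2 ⟨b, mem_erase.2 ⟨hab.symm, mem_univ _⟩⟩) hdc)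
  set D := Dset G a b c with hD
  set E := Dset G a b d with hE
  have hinvimg : ∀ (x : α) (g : Perm α), g ∈ G → g a = a → g b = b → (Dset G a b x).image g = Dset G a b x := by
    intro x g hg ha hb
    refine eq_of_subset_of_card_le (fun z hz => ?_) (card_image_of_injective _ g.injective).ge
    obtain ⟨w, hw, rfl⟩ := mem_image.1 hz
    exact mem_Dset.2 ((mem_Dset.1 hw).trans ⟨g, hg, ha, hb, rfl⟩)
  have hconst : ∀ x y : α, ∀ v ∈ Dset G a b x,
      (Nbr G a b c v ∩ Dset G a b y).card = (Nbr G a b c x ∩ Dset G a b y).card := by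
    intro x y v hv
    obtain ⟨g, hg, ha, hb, rfl⟩ := mem_Dset.1 hv
    rw [← card_image_of_injective (Nbr G a b c x ∩ Dset G a b y) g.injective,
      image_inter _ _ g.injective, ← nbr_map hg ha, hinvimg y g hg ha hb]
  have hdc : D.card * (Nbr G a b c c ∩ E).card = E.card * (Nbr G a b c d ∩ D).card := by
    have e : ∑ v ∈ D, (Nbr G a b c v ∩ E).card = ∑ w ∈ E, (Nbr G a b c w ∩ D).card := by
      have f1 : ∀ v (S : Finset α), Nbr G a b c v ∩ S = S.filter fun w => Edge G a b c v w := fun v S => by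
        ext w; simp [mem_Nbr, and_comm]
      simp only [f1, card_filter]
      rw [sum_comm]
      exact sum_congr rfl fun w _ => sum_congr rfl fun v _ =>
        if_congr ⟨hsymm _ _, hsymm _ _⟩ rfl rfl
    rwa [sum_congr rfl (hconst c d), sum_congr rfl (hconst d c), sum_const, sum_const, smul_eq_mul,
      smul_eq_mul] at e
  rcases not_coprime_block (Finset.card_pos.2 ⟨c, mem_Dset.2 Orb.refl⟩)
      (Finset.card_pos.2 ⟨d, mem_Dset.2 Orb.refl⟩) hco (card_le_card inter_subset_right)
      (card_le_card inter_subset_right) hdc with h0 | h0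
  · refine no_closed hab hca hcb h2 hprim ⟨d, hda, hdb, hcd⟩ fun v hv w hvw => ?_
    by_contra hcon
    rw [not_or] at hcon
    have hwa := (hvw.ne hab.symm hca hcb).2.1
    have hwE : w ∈ E := mem_Dset.2 ((htwo w hwa hcon.1).resolve_left hcon.2)
    have := hconst c d v (mem_Dset.2 hv)
    rw [h0, card_eq_zero] at this
    exact notMem_empty w (this ▸ mem_inter.2 ⟨mem_Nbr.2 hvw, hwE⟩)
  · refine no_closed hab hda hdb h2 hprim ⟨c, hca, hcb, fun h => hcd h.symm⟩ fun v hv w hvw => ?_
    by_contra hcon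
    rw [not_or] at hcon
    obtain ⟨hva, hwa, hvw'⟩ := hvw.ne hab.symm hda hdb
    have hwD : w ∈ D := mem_Dset.2 ((htwo w hwa hcon.1).resolve_right hcon.2)
    have hfull : Nbr G a b c v ∩ D = D := by
      refine eq_of_subset_of_card_le inter_subset_right ?_
      rw [hconst d c v (mem_Dset.2 hv), h0]
    rw [← hfull, mem_inter, mem_Nbr] at hwD
    exact (hcompl v w hva hwa hvw').1 hvw hwD.1

end

end Cfsg.Agent.Lib.TwinPrime
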