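import Cfsg.Agent.Lib.Perm.JordanPrime

/-!
Orbits of a Sylow `r` subgroup of the pointwise stabiliser of a small set.
-/

set_option autoImplicit false

namespace Cfsg.Agent.Lib.TwinPrime

open Finset Equiv MulAction CfsgLib.Perm

noncomputable section

attribute [local instance] Classical.propDecidable

variable {α : Type*} [Fintype α]

/-- The orbit of a point under a permutation group, as a finset. -/
def orb (R : Subgroup (Perm α)) (y : α) : Finset α := univ.filter fun z => ∃ v ∈ R, v y = z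

theorem mem_orb {R : Subgroup (Perm α)} {y z : α} : z ∈ orb R y ↔ ∃ v ∈ R, v y = z := by
  simp [orb]

theorem self_mem_orb {R : Subgroup (Perm α)} {y : α} : y ∈ orb R y :=
  mem_orb.2 ⟨1, one_mem R, rfl⟩

theorem orb_eq {R : Subgroup (Perm α)} {y z : α} (h : z ∈ orb R y) : orb R z = orb R y := by
  obtain ⟨v, hv, rfl⟩ := mem_orb.1 h
  ext w
  simp only [mem_orb]
  constructor
  · rintro ⟨u, hu, rfl⟩; exact ⟨u * v, mul_mem hu hv, rfl⟩
  · rintro ⟨u, hu, rfl⟩
    exact ⟨u * v⁻¹, mul_mem hu (inv_mem hv), by simp⟩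

theorem card_orb (R : Subgroup (Perm α)) (y : α) : (orb R y).card = Nat.card (orbit R y) := by
  rw [Nat.card_coe_set_eq, ← Set.ncard_coe_finset]
  congr 1
  ext z
  rw [mem_coe, mem_orb, mem_orbit_iff]
  exact ⟨fun ⟨v, hv, h⟩ => ⟨⟨v, hv⟩, h⟩, fun ⟨v, h⟩ => ⟨v, v.2, h⟩⟩

/-- A Sylow `r` subgroup of the stabiliser of `F` all whose orbits off `F` have `r` points. -/
structure SylFix (G : Subgroup (Perm α)) (F : Finset α) (r : ℕ) (R : Subgroup (Perm α)) : Prop where
  hr : r.Prime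
  le : R ≤ fixedPart G (F : Set α)
  pgrp : IsPGroup r R
  syl : Nat.card R = r ^ (Nat.card (fixedPart G (F : Set α))).factorization r
  orbcard : ∀ y ∉ F, (orb R y).card = r

variable {G : Subgroup (Perm α)} {F : Finset α} {r : ℕ} {R : Subgroup (Perm α)}

theorem SylFix.exists_sylfix {j : ℕ} (hr : r.Prime) (hj0 : 0 < j) (hjr : j < r)
    (hF : Fᶜ.card = j * r)
    (htr : ∀ x ∉ F, ∀ y ∉ F, ∃ g ∈ fixedPart G (F : Set α), g x = y) :
    ∃ R, SylFix G F r R := by
  haveI := Fact.mk hr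
  set K := fixedPart G (F : Set α) with hK
  let P : Sylow r ↥K := Classical.arbitrary _
  refine ⟨(P : Subgroup ↥K).map K.subtype, hr, Subgroup.map_subtype_le _, P.2.map _, ?_, ?_⟩
  · rw [Subgroup.card_map_of_injective K.subtype_injective, P.card_eq_multiplicity]
  intro y hy
  have hfix : ∀ v ∈ K, ∀ f ∈ F, v f = f := fun v hv f hf => (mem_fixedPart_iff.1 hv).2 f hf
  have horbK : orb K y = Fᶜ := by
    ext z
    rw [mem_orb, mem_compl]
    refine ⟨?_, fun hz => htr y hy z hz⟩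
    rintro ⟨v, hv, rfl⟩ hz
    exact hy (v.injective (hfix v hv _ hz) ▸ hz)
  have hsub : orb ((P : Subgroup ↥K).map K.subtype) y ⊆ Fᶜ := by
    rw [← horbK]
    intro z hz
    obtain ⟨v, hv, h⟩ := mem_orb.1 hz
    exact mem_orb.2 ⟨v, Subgroup.map_subtype_le _ hv, h⟩
  obtain ⟨n, hn⟩ := (P.2.map K.subtype).card_orbit y
  rw [← card_orb] at hn
  have hle := card_le_card hsub
  rw [hn, hF] at hle
  rcases n with _ | _ | n
  · exfalso
    have hPs : (P : Subgroup ↥K) ≤ stabilizer ↥K y := by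
      intro v hv
      have h1 : (v : Perm α) y ∈ orb ((P : Subgroup ↥K).map K.subtype) y :=
        mem_orb.2 ⟨v, Subgroup.mem_map_of_mem _ hv, rfl⟩
      exact card_le_one.1 (by rw [hn, pow_zero]) _ h1 _ self_mem_orb
    have h2 : Nat.card (P : Subgroup ↥K) ∣ Nat.card (stabilizer ↥K y) := Subgroup.card_dvd_of_le hPs
    have h3 : (stabilizer ↥K y).index = j * r := by
      rw [MulAction.index_stabilizer, ← Nat.card_coe_set_eq, ← card_orb, horbK, hF]
    refine Nat.pow_succ_factorization_not_dvd (Nat.card_pos (α := ↥K)).ne' hr ?_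
    rw [pow_succ, ← P.card_eq_multiplicity, ← Subgroup.index_mul_card (stabilizer ↥K y), h3,
      mul_comm (Nat.card (P : Subgroup ↥K))]
    exact mul_dvd_mul (dvd_mul_left _ _) h2
  · rw [hn, zero_add, pow_one]
  · exfalso
    have h1 : r * r ≤ r ^ (n + 1 + 1) := by
      rw [pow_succ, pow_succ, mul_assoc]
      exact Nat.le_mul_of_pos_left _ (pow_pos hr.pos _)
    have h2 : j * r < r * r := Nat.mul_lt_mul_of_pos_right hjr hr.pos
    omega

theorem SylFix.leG (S : SylFix G F r R) {v : Perm α} (hv : v ∈ R) : v ∈ G :=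
  (mem_fixedPart_iff.1 (S.le hv)).1

theorem SylFix.fixF (S : SylFix G F r R) {v : Perm α} (hv : v ∈ R) {f : α} (hf : f ∈ F) : v f = f :=
  (mem_fixedPart_iff.1 (S.le hv)).2 f hf

theorem SylFix.maps (S : SylFix G F r R) {v : Perm α} (hv : v ∈ R) {y : α} (hy : y ∉ F) : v y ∉ F :=
  fun h => hy (v.injective (S.fixF hv h) ▸ h)

theorem SylFix.orb_subset (S : SylFix G F r R) {y : α} (hy : y ∉ F) : orb R y ⊆ Fᶜ := fun z hz => by
  obtain ⟨v, hv, rfl⟩ := mem_orb.1 hz
  exact mem_compl.2 (S.maps hv hy)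

theorem SylFix.card_stab (S : SylFix G F r R) {y : α} (hy : y ∉ F) :
    (stabilizer R y).Normal ∧ (stabilizer R y).index = r := by
  haveI := Fact.mk S.hr
  have h : (stabilizer R y).index = r := by
    rw [MulAction.index_stabilizer, ← Nat.card_coe_set_eq, ← card_orb, S.orbcard y hy]
  refine ⟨Subgroup.normal_of_index_eq_minFac_card ?_, h⟩
  obtain ⟨n, hn⟩ := IsPGroup.iff_card.1 S.pgrp
  rw [h, hn, S.hr.pow_minFac]
  rintro rfl
  have := Subgroup.index_dvd_card (stabilizer R y)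
  rw [h, hn, pow_zero] at this
  exact S.hr.ne_one (Nat.dvd_one.1 this)

theorem SylFix.stab (S : SylFix G F r R) {v : Perm α} (hv : v ∈ R) {y : α} (hy : y ∉ F) (h : v y = y)
    {z : α} (hz : z ∈ orb R y) : v z = z := by
  obtain ⟨c, hc, rfl⟩ := mem_orb.1 hz
  have hN := (S.card_stab hy).1
  have := hN.conj_mem ⟨v, hv⟩ h (⟨c, hc⟩⁻¹ : R)
  change (c⁻¹ * v * (c⁻¹)⁻¹) y = y at this
  rw [inv_inv, Perm.mul_apply, Perm.mul_apply, Perm.inv_eq_iff_eq] at this
  exact this

theorem SylFix.pow_r (S : SylFix G F r R) {v : Perm α} (hv : v ∈ R) : v ^ r = 1 := by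
  refine Equiv.ext fun y => ?_
  by_cases hy : y ∈ F
  · exact S.fixF (pow_mem hv r) hy
  · obtain ⟨hN, hi⟩ := S.card_stab hy
    have h := Subgroup.pow_index_mem (stabilizer R y) (⟨v, hv⟩ : R)
    rw [hi] at h
    exact h

theorem SylFix.order (S : SylFix G F r R) {v : Perm α} (hv : v ∈ R) (h1 : v ≠ 1) : orderOf v = r :=
  haveI := Fact.mk S.hr
  orderOf_eq_prime (S.pow_r hv) h1

theorem SylFix.gen (S : SylFix G F r R) {a c : Perm α} (ha : a ∈ R) (hc : c ∈ R) {y : α} (hy : y ∉ F)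
    (hay : a y ≠ y) : ∃ i : ℕ, ∀ z ∈ orb R y, c z = (a ^ i) z := by
  haveI := Fact.mk S.hr
  have hle : Subgroup.zpowers a ≤ R := Subgroup.zpowers_le.2 ha
  have hsub : orb (Subgroup.zpowers a) y ⊆ orb R y := fun z hz => by
    obtain ⟨v, hv, rfl⟩ := mem_orb.1 hz
    exact mem_orb.2 ⟨v, hle hv, rfl⟩
  obtain ⟨n, hn⟩ := (S.pgrp.to_le hle).card_orbit y
  rw [← card_orb] at hn
  have heq : orb (Subgroup.zpowers a) y = orb R y := by
    refine eq_of_subset_of_card_le hsub ?_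
    rw [S.orbcard y hy, hn]
    rcases n with _ | n
    · exact absurd (card_le_one.1 (by rw [hn, pow_zero]) _
        (mem_orb.2 ⟨a, Subgroup.mem_zpowers a, rfl⟩) _ self_mem_orb) hay
    · exact Nat.le_self_pow (Nat.succ_ne_zero n) r
  obtain ⟨u, hu, huy⟩ := mem_orb.1 (heq ▸ mem_orb.2 ⟨c, hc, rfl⟩ : c y ∈ orb (Subgroup.zpowers a) y)
  obtain ⟨i, rfl⟩ := mem_powers_iff_mem_zpowers.2 hu
  refine ⟨i, fun z hz => ?_⟩
  have := S.stab (mul_mem (inv_mem (pow_mem ha i)) hc) hy (by rw [Perm.mul_apply, Perm.inv_eq_iff_eq]; exact huy.symm) hz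
  rwa [Perm.mul_apply, Perm.inv_eq_iff_eq] at this

theorem SylFix.exists_move (S : SylFix G F r R) {y : α} (hy : y ∉ F) : ∃ a ∈ R, a y ≠ y := by
  obtain ⟨z, hz, hne⟩ := exists_mem_ne (show 1 < (orb R y).card by rw [S.orbcard y hy]; exact S.hr.one_lt) y
  obtain ⟨a, ha, rfl⟩ := mem_orb.1 hz
  exact ⟨a, ha, hne⟩

/-- A nontrivial element supported by one orbit is a cycle of length `r`. -/
theorem SylFix.no_small (S : SylFix G F r R) (hG : IsPreprimitive G α) (h3 : r + 3 ≤ Fintype.card α)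
    (hA : ¬ alternatingGroup α ≤ G) {v : Perm α} (hv : v ∈ R) {y : α} (hy : y ∉ F)
    (hfix : ∀ z ∉ F, z ∉ orb R y → v z = z) : v = 1 := by
  by_contra h1
  have ho := S.order hv h1
  have hsup : v.support.card ≤ r := by
    rw [← S.orbcard y hy]
    refine card_le_card fun z hz => ?_
    by_contra hz'
    rw [Perm.mem_support] at hz
    by_cases hzF : z ∈ F
    · exact hz (S.fixF hv hzF)
    · exact hz (hfix z hzF hz')
  have hc : v.IsCycle := Equiv.Perm.isCycle_of_prime_order (ho ▸ S.hr)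
    (by rw [ho]; have := S.hr.pos; omega)
  exact hA (alternatingGroup_le_of_isCycle_prime hG S.hr (by rwa [Nat.card_eq_fintype_card]) hc
    (hc.orderOf.symm.trans ho) (S.leG hv))

end

end Cfsg.Agent.Lib.TwinPrime
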