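import Cfsg.Agent.Lib.TwinPrime.Basic

/-!
Passing from an action to its permutation group.
-/

set_option autoImplicit false

namespace Cfsg.Agent.Lib.TwinPrime

open MulAction

theorem twin_range {G Ω : Type*} [Group G] [Finite G] [MulAction G Ω] [FaithfulSMul G Ω] [Fintype Ω]
    {p q : ℕ} (hp : p.Prime) (hΩ : Fintype.card Ω = p) (htrans : IsPretransitive G Ω)
    (hins : ¬ Group.IsSolvable G) (P : Sylow p G)
    (hN : 2 * Nat.card ↥(Subgroup.normalizer ((P : Subgroup G) : Set G)) = p * (p - 1))
    (hq : q.Prime) (hq5 : 5 < q) (hpq : p = q + 2) :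
    Twin (toPermHom G Ω).range p q := by
  haveI := htrans
  haveI := Fact.mk hp
  set f : G ≃* (toPermHom G Ω).range := CfsgLib.HalfNormalizer.rangeEquiv with hf
  let P' : Sylow p (toPermHom G Ω).range := P.mapSurjective (f := f.toMonoidHom) f.surjective
  refine ⟨hp, hq, hq5, hpq, hΩ, CfsgLib.HalfNormalizer.range_not_solvable hins,
    CfsgLib.HalfNormalizer.range_pretransitive, P', ?_⟩
  rw [show (P' : Subgroup (toPermHom G Ω).range) = (P : Subgroup G).map f.toMonoidHom from rfl,
    ← Subgroup.map_equiv_normalizer_eq]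
  rwa [Nat.card_congr ((Subgroup.normalizer ((P : Subgroup G) : Set G)).equivMapOfInjective
      f.toMonoidHom f.injective).toEquiv] at hN

end Cfsg.Agent.Lib.TwinPrime
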